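import Groth.Agent.GrpSchLib.HopfDim
import Groth.Agent.CommAlgDim.Regular
import Groth.Agent.PerfectFieldLib.FormallySmooth

/-! A Hopf algebra over an algebraically closed field whose nilpotents lie in the square of the
augmentation ideal is reduced. -/

noncomputable section

universe u v

open IsLocalRing

namespace Groth.Agent.GrpSchLib.HopfRed

/-- A local ring is reduced if its reduction is regular and the nilpotents lie in the square of the
maximal ideal. -/
theorem isReduced_of_regular_quotient {R R' : Type v} [CommRing R] [IsLocalRing R] [IsNoetherianRing R]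
    [CommRing R'] [IsRegularLocalRing R'] (f : R →+* R') (hf : Function.Surjective f)
    (hnil : ∀ x, f x = 0 → IsNilpotent x) (hsq : RingHom.ker f ≤ maximalIdeal R ^ 2) : IsReduced R := by
  classical
  have hdim : ringKrullDim R' = ringKrullDim R := by
    rw [← ringKrullDim_eq_of_ringEquiv (RingHom.quotientKerEquivOfSurjective hf), ringKrullDim_quotient]
    have : PrimeSpectrum.zeroLocus (RingHom.ker f : Set R) = Set.univ := by
      rw [Set.eq_univ_iff_forall]
      exact fun P x hx => nilradical_le_prime P.asIdeal (mem_nilradical.2 (hnil x hx))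
    rw [this, ringKrullDim]
    exact Order.krullDim_eq_of_orderIso (OrderIso.Set.univ)
  obtain ⟨T, hTcard, hT⟩ :=
    (IsNoetherian.noetherian (maximalIdeal R')).exists_span_finset_card_eq_spanFinrank
  let l : R' → R := fun t => (hf t).choose
  have hl : ∀ t, f (l t) = t := fun t => (hf t).choose_spec
  let S : Finset R := T.image l
  have hmap : (maximalIdeal R).map f = maximalIdeal R' :=
    (IsLocalRing.eq_maximalIdeal (Ideal.map_eq_top_or_isMaximal_of_surjective f hf
      (maximalIdeal.isMaximal R) |>.resolve_left fun h => by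
        have h1 := congrArg (Ideal.comap f) h
        rw [Ideal.comap_map_of_surjective f hf, Ideal.comap_top, sup_eq_left.2 ?_] at h1
        · exact (maximalIdeal.isMaximal R).ne_top h1
        · exact hsq.trans (Ideal.pow_le_self two_ne_zero)))
  have hSm : Ideal.span (S : Set R) ≤ maximalIdeal R := by
    rw [Ideal.span_le]
    intro s hs
    obtain ⟨t, ht, rfl⟩ := Finset.mem_image.1 hs
    have h1 : t ∈ (maximalIdeal R).map f := hmap.symm ▸ hT ▸ Submodule.subset_span ht
    obtain ⟨a, ha, hat⟩ := (Ideal.mem_map_iff_of_surjective f hf).1 h1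
    have h2 : l t - a ∈ RingHom.ker f := by rw [RingHom.mem_ker, map_sub, hl, hat, sub_self]
    simpa using add_mem (Ideal.pow_le_self two_ne_zero (hsq h2)) ha
  have hgen : maximalIdeal R ≤ Ideal.span (S : Set R) := by
    refine Submodule.le_of_le_smul_of_le_jacobson_bot (IsNoetherian.noetherian _)
      (IsLocalRing.maximalIdeal_le_jacobson _) fun a ha => ?_
    have h1 : f a ∈ (Ideal.span (S : Set R)).map f := by
      rw [Ideal.map_span]
      have hsub : (T : Set R') ⊆ f '' (S : Set R) := fun t ht =>
        ⟨l t, Finset.mem_coe.2 (Finset.mem_image_of_mem _ ht), hl t⟩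
      refine Ideal.span_mono hsub ?_
      rw [Ideal.span, hT, ← hmap]
      exact Ideal.mem_map_of_mem f ha
    obtain ⟨s, hs, hsa⟩ := (Ideal.mem_map_iff_of_surjective f hf).1 h1
    have h2 : a - s ∈ maximalIdeal R ^ 2 := hsq (by rw [RingHom.mem_ker, map_sub, hsa, sub_self])
    rw [← add_sub_cancel s a]
    rw [pow_two] at h2
    exact add_mem (Submodule.mem_sup_left hs) (Submodule.mem_sup_right h2)
  have : IsRegularLocalRing R := by
    refine IsRegularLocalRing.of_spanFinrank_maximalIdeal_le R ?_
    rw [← hdim, ← (inferInstance : IsRegularLocalRing R').spanFinrank_maximalIdeal, ← hTcard]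
    have h : (maximalIdeal R).spanFinrank ≤ T.card := by
      rw [le_antisymm hgen hSm]
      refine (Submodule.spanFinrank_span_le_ncard_of_finite S.finite_toSet).trans ?_
      rw [Set.ncard_coe_finset]
      exact Finset.card_image_le
    exact_mod_cast h
  have := CommAlgDim.isDomain_of_isRegularLocalRing R
  infer_instance

variable {k : Type u} [Field k] [IsAlgClosed k] {B : Type v} [CommRing B] [HopfAlgebra k B]
  [Algebra.FiniteType k B]

omit [HopfAlgebra k B] in
lemma exists_regular_point [Algebra k B] [Algebra.FiniteType k B] [IsReduced B] [Nontrivial B] :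
    ∃ (M : Ideal B) (_ : M.IsMaximal), IsRegularLocalRing (Localization.AtPrime M) := by
  have : IsNoetherianRing B := Algebra.FiniteType.isNoetherianRing k B
  have : Algebra.FinitePresentation k B := Algebra.FinitePresentation.of_finiteType.1 ‹_›
  obtain ⟨P, hP⟩ := Ideal.nonempty_minimalPrimes (I := (⊥ : Ideal B)) bot_ne_top
  have := hP.isPrime
  have hfld : IsField (Localization.AtPrime P) := by
    have hN : IsReduced (Localization.AtPrime P) := inferInstance
    refine IsLocalRing.isField_iff_maximalIdeal_eq.2 ?_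
    refine eq_bot_iff.2 fun x hx => ?_
    have : x ∈ nilradical (Localization.AtPrime P) := by
      have : Ring.KrullDimLE 0 (Localization.AtPrime P) := .of_isLocalization _ hP _
      rw [Ring.KrullDimLE.nilradical_eq_maximalIdeal]
      exact hx
    exact (Submodule.mem_bot _).2 (mem_nilradical.1 this).eq_zero
  let : Field (Localization.AtPrime P) := hfld.toField
  have hsm : Algebra.IsSmoothAt k P :=
    PerfectFieldLib.formallySmooth_of_perfectField k (Localization.AtPrime P)
  have : IsJacobsonRing B := isJacobsonRing_of_finiteType (A := k)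
  obtain ⟨x, hx, hxc⟩ := nonempty_inter_closedPoints (X := PrimeSpectrum B)
    (Z := Algebra.smoothLocus k B) ⟨⟨P, ‹_›⟩, hsm⟩ Algebra.isOpen_smoothLocus.isLocallyClosed
  have hM : x.asIdeal.IsMaximal := (PrimeSpectrum.isClosed_singleton_iff_isMaximal x).1 hxc
  exact ⟨x.asIdeal, hM, (isRegular_iff_isSmoothAt x.asIdeal).1 hx⟩

theorem isReduced_of_nilradical_le (h : nilradical B ≤ augI k B ^ 2) : IsReduced B := by
  classical
  have : IsNoetherianRing B := Algebra.FiniteType.isNoetherianRing k B
  have : Nontrivial B := (cou (k := k) (B := B)).toRingHom.domain_nontrivial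
  let N : Ideal B := nilradical B
  have : IsReduced (B ⧸ N) := (Ideal.isRadical_iff_quotient_reduced N).1 (Ideal.radical_isRadical (⊥ : Ideal B))
  have hNo : N ≤ augI k B := nilradical_le_prime _
  have : Nontrivial (B ⧸ N) := Ideal.Quotient.nontrivial_iff.2 fun e =>
    (isMaximal_augI (k := k) (B := B)).ne_top (top_le_iff.1 (e ▸ hNo))
  obtain ⟨M', hM', hreg⟩ := exists_regular_point (k := k) (B := B ⧸ N)
  let M : Ideal B := M'.comap (Ideal.Quotient.mk N)
  have : M.IsMaximal := Ideal.comap_isMaximal_of_surjective _ Ideal.Quotient.mk_surjective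
  -- translate it to the origin
  let : Field (B ⧸ M) := Ideal.Quotient.field M
  have : Module.Finite k (B ⧸ M) := finite_of_finite_type_of_isJacobsonRing k (B ⧸ M)
  let e : k ≃ₐ[k] (B ⧸ M) := AlgEquiv.ofBijective (Algebra.ofId k (B ⧸ M))
    (IsAlgClosed.algebraMap_bijective_of_isIntegral)
  let g : B →ₐ[k] k := e.symm.toAlgHom.comp (Ideal.Quotient.mkₐ k M)
  have hNmap : N = N.map ((translEquiv g : B ≃ₐ[k] B) : B →+* B) := by
    refine le_antisymm (fun a ha => ?_) (Ideal.map_le_iff_le_comap.2 fun a ha => ?_)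
    · rw [← (translEquiv g).apply_symm_apply a]
      exact Ideal.mem_map_of_mem _ (mem_nilradical.2 ((mem_nilradical.1 ha).map _))
    · exact mem_nilradical.2 ((mem_nilradical.1 ha).map _)
  let τ : (B ⧸ N) ≃ₐ[k] (B ⧸ N) := Ideal.quotientEquivAlg N N (translEquiv g) hNmap
  let o' : Ideal (B ⧸ N) := (augI k B).map (Ideal.Quotient.mk N)
  have ho' : ∀ b, Ideal.Quotient.mk N b ∈ o' ↔ b ∈ augI k B := fun b => by
    rw [Ideal.mem_map_iff_of_surjective _ Ideal.Quotient.mk_surjective]
    refine ⟨fun ⟨c, hc, hcb⟩ => ?_, fun hb => ⟨b, hb, rfl⟩⟩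
    simpa using sub_mem hc (hNo (Ideal.Quotient.eq.1 hcb))
  have : o'.IsPrime := Ideal.map_isPrime_of_surjective Ideal.Quotient.mk_surjective (by rwa [Ideal.mk_ker])
  let E := locEquiv τ M' o' fun z => by
    obtain ⟨b, rfl⟩ := Ideal.Quotient.mk_surjective z
    rw [show τ (Ideal.Quotient.mk N b) = Ideal.Quotient.mk N (translEquiv g b) from rfl, ho',
      RingHom.mem_ker, cou_translEquiv]
    show g b = 0 ↔ b ∈ M
    simp [g, Ideal.Quotient.eq_zero_iff_mem]
  have := hreg
  have : IsRegularLocalRing (Localization.AtPrime o') := IsRegularLocalRing.of_ringEquiv E.toRingEquiv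
  -- the map to the reduction
  let f : Bo k B →+* Localization.AtPrime o' :=
    Localization.localRingHom (augI k B) o' (Ideal.Quotient.mk N) (Ideal.ext fun b => (ho' b).symm)
  have hf : Function.Surjective f := by
    intro z
    obtain ⟨a, s, rfl⟩ := IsLocalization.exists_mk'_eq o'.primeCompl z
    obtain ⟨a, rfl⟩ := Ideal.Quotient.mk_surjective a
    obtain ⟨s, hs⟩ := s
    obtain ⟨s, rfl⟩ := Ideal.Quotient.mk_surjective s
    exact ⟨IsLocalization.mk' _ a (⟨s, fun h' => hs ((ho' s).2 h')⟩ : (augI k B).primeCompl),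
      Localization.localRingHom_mk' _ _ _ _ a _⟩
  have hker : ∀ x, f x = 0 → ∃ (a : B) (s : (augI k B).primeCompl), a ∈ N ∧
      x = IsLocalization.mk' _ a s := by
    intro x hx
    obtain ⟨a, s, rfl⟩ := IsLocalization.exists_mk'_eq (augI k B).primeCompl x
    rw [Localization.localRingHom_mk', IsLocalization.mk'_eq_zero_iff] at hx
    obtain ⟨⟨t, ht⟩, hta⟩ := hx
    obtain ⟨t, rfl⟩ := Ideal.Quotient.mk_surjective t
    rw [← map_mul, Ideal.Quotient.eq_zero_iff_mem] at hta
    have ht' : t ∉ augI k B := fun h' => ht ((ho' t).2 h')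
    exact ⟨t * a, ⟨t, ht'⟩ * s, hta, (IsLocalization.mk'_cancel _ _ ⟨t, ht'⟩).symm.trans (by
      congr 1
      · exact mul_comm _ _
      · exact mul_comm _ _)⟩
  have hR : IsReduced (Bo k B) := by
    refine isReduced_of_regular_quotient f hf (fun x hx => ?_) fun x hx => ?_
    · obtain ⟨a, s, ha, rfl⟩ := hker x hx
      rw [IsLocalization.mk'_eq_mul_mk'_one]
      exact Commute.isNilpotent_mul_right (Commute.all _ _) ((mem_nilradical.1 ha).map _)
    · obtain ⟨a, s, ha, rfl⟩ := hker x hx
      rw [IsLocalization.mk'_eq_mul_mk'_one, ← Localization.AtPrime.map_eq_maximalIdeal, ← Ideal.map_pow]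
      exact Ideal.mul_mem_right _ _ (Ideal.mem_map_of_mem _ (h ha))
  refine isReduced_ofLocalizationMaximal B fun M₁ hM₁ => ?_
  obtain ⟨e₁⟩ := exists_locEquiv (k := k) M₁
  exact isReduced_of_injective e₁ e₁.injective

end Groth.Agent.GrpSchLib.HopfRed
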