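import Groth.Agent.GrpSchLib.HopfGr
import Groth.Agent.CohenLib.SmoothPoint
import Groth.Agent.CommAlgDim.Integral
import Mathlib.RingTheory.Ideal.CotangentBaseChange
import Mathlib.RingTheory.Etale.Descent

/-! Dimension and smoothness of affine algebraic groups. -/

noncomputable section

universe u v w

open TensorProduct IsLocalRing

namespace Groth.Agent.GrpSchLib.HopfRed

section Ring

variable {k : Type u} [Field k]

lemma exists_small (A : Type v) [CommRing A] [Algebra k A] [Algebra.FiniteType k A] :
    ∃ (A₀ : Type u) (_ : CommRing A₀) (_ : Algebra k A₀), Algebra.FiniteType k A₀ ∧ Nonempty (A₀ ≃ₐ[k] A) := by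
  obtain ⟨n, f, hf⟩ := Algebra.FiniteType.iff_quotient_mvPolynomial''.1 (inferInstance : Algebra.FiniteType k A)
  exact ⟨MvPolynomial (Fin n) k ⧸ RingHom.ker f, inferInstance, inferInstance, inferInstance,
    ⟨Ideal.quotientKerAlgEquivOfSurjective hf⟩⟩

/-- The equivalence of localisations at corresponding primes. -/
def locEquiv {A : Type v} {B : Type w} [CommRing A] [Algebra k A] [CommRing B] [Algebra k B]
    (e : A ≃ₐ[k] B) (P : Ideal A) [P.IsPrime] (Q : Ideal B) [Q.IsPrime] (h : ∀ a, e a ∈ Q ↔ a ∈ P) :
    Localization.AtPrime P ≃ₐ[k] Localization.AtPrime Q :=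
  IsLocalization.algEquivOfAlgEquiv (M := P.primeCompl) (T := Q.primeCompl)
    (Localization.AtPrime P) (Localization.AtPrime Q) e (by
    ext b
    constructor
    · rintro ⟨a, ha, rfl⟩
      exact fun hb => ha ((h a).1 hb)
    · intro hb
      refine ⟨e.symm b, ?_, e.apply_symm_apply b⟩
      intro ha
      exact hb (by simpa using (h (e.symm b)).2 ha))

lemma isRegular_iff_isSmoothAt [IsAlgClosed k] {A : Type v} [CommRing A] [Algebra k A]
    [Algebra.FiniteType k A] (M : Ideal A) [M.IsMaximal] :
    Algebra.IsSmoothAt k M ↔ IsRegularLocalRing (Localization.AtPrime M) := by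
  obtain ⟨A₀, _, _, _, ⟨e⟩⟩ := exists_small (k := k) A
  let M₀ : Ideal A₀ := M.comap e
  have : M₀.IsMaximal := Ideal.comap_isMaximal_of_equiv e
  let : Field (A₀ ⧸ M₀) := Ideal.Quotient.field M₀
  have : Module.Finite k (A₀ ⧸ M₀) := finite_of_finite_type_of_isJacobsonRing k (A₀ ⧸ M₀)
  have hb : Function.Bijective (algebraMap k (A₀ ⧸ M₀)) := IsAlgClosed.algebraMap_bijective_of_isIntegral
  have hs : Function.Surjective (algebraMap k M₀.ResidueField) := by
    have h1 := Ideal.algebraMap_residueField_surjective M₀
    intro y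
    obtain ⟨a, rfl⟩ := h1 y
    obtain ⟨c, hc⟩ := hb.2 (Ideal.Quotient.mk M₀ a)
    refine ⟨c, ?_⟩
    rw [IsScalarTower.algebraMap_apply k A₀ M₀.ResidueField, ← sub_eq_zero, ← map_sub,
      Ideal.algebraMap_residueField_eq_zero, ← Ideal.Quotient.eq_zero_iff_mem, map_sub, sub_eq_zero,
      ← hc]
    rfl
  have : Algebra.IsGeometricallyReduced k M₀.ResidueField := by
    have : Algebra.IsGeometricallyReduced k k :=
      (Algebra.isGeometricallyReduced_field_iff k k).2
        (isReduced_of_injective (Algebra.TensorProduct.rid k k (AlgebraicClosure k)).toAlgHom.toRingHom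
          (Algebra.TensorProduct.rid k k (AlgebraicClosure k)).injective)
    exact Algebra.IsGeometricallyReduced.of_injective
      (AlgEquiv.ofBijective (Algebra.ofId k _) ⟨(algebraMap k M₀.ResidueField).injective, hs⟩).symm.toAlgHom
      (AlgEquiv.ofBijective (Algebra.ofId k _) ⟨(algebraMap k M₀.ResidueField).injective, hs⟩).symm.injective
  let E := locEquiv e M₀ M fun a => Iff.rfl
  have h1 := CohenLib.isSmoothAt_iff_isRegularLocalRing k A₀ M₀
  refine ⟨fun h => ?_, fun h => ?_⟩
  · have : Algebra.FormallySmooth k (Localization.AtPrime M₀) :=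
      @Algebra.FormallySmooth.of_equiv k _ _ _ _ _ _ _ h E.symm
    have := h1.1 this
    exact IsRegularLocalRing.of_ringEquiv E.toRingEquiv
  · have := IsRegularLocalRing.of_ringEquiv E.symm.toRingEquiv
    have := h1.2 this
    exact Algebra.FormallySmooth.of_equiv E

lemma formallySmooth_of_maximal {A : Type v} [CommRing A] [Algebra k A] [Algebra.FiniteType k A]
    (h : ∀ (M : Ideal A) [M.IsMaximal], Algebra.IsSmoothAt k M) : Algebra.FormallySmooth k A := by
  have : Algebra.FinitePresentation k A := Algebra.FinitePresentation.of_finiteType.1 ‹_›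
  rw [← Algebra.smoothLocus_eq_univ_iff, Set.eq_univ_iff_forall]
  intro P
  obtain ⟨M, hM, hle⟩ := P.asIdeal.exists_le_maximal P.isPrime.ne_top
  exact ((PrimeSpectrum.le_iff_specializes P ⟨M, hM.isPrime⟩).1 hle).mem_open
    Algebra.isOpen_smoothLocus (h M)

end Ring

variable {k : Type u} [Field k] {B : Type v} [CommRing B] [HopfAlgebra k B]

variable (k B) in
/-- The local ring at the origin. -/
abbrev Bo : Type v := Localization.AtPrime (augI k B)

/-- The translations are automorphisms. -/
def translEquiv (g : B →ₐ[k] k) : B ≃ₐ[k] B :=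
  AlgEquiv.ofAlgHom (transl g) (transl ((WithConv.toConv g)⁻¹).ofConv)
    (by rw [transl_comp_transl, show WithConv.toConv g * WithConv.toConv ((WithConv.toConv g)⁻¹).ofConv = 1
      from mul_inv_cancel _, transl_one])
    (by rw [transl_comp_transl, show WithConv.toConv ((WithConv.toConv g)⁻¹).ofConv * WithConv.toConv g = 1
      from inv_mul_cancel _, transl_one])

lemma cou_translEquiv (g : B →ₐ[k] k) (a : B) : cou (k := k) (translEquiv g a) = g a := by
  have := AlgHom.congr_fun (comp_transl (cou (k := k) (B := B)) g) a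
  rw [show WithConv.toConv (cou (k := k) (B := B)) = 1 by rw [← one_eq_cou], _root_.one_mul] at this
  exact this

instance isMaximal_augI : (augI k B).IsMaximal :=
  RingHom.ker_isMaximal_of_surjective (cou (k := k) (B := B)) fun c => ⟨algebraMap k B c, by simp⟩

lemma exists_locEquiv [IsAlgClosed k] [Algebra.FiniteType k B] (M : Ideal B) [M.IsMaximal] :
    Nonempty (Localization.AtPrime M ≃ₐ[k] Bo k B) := by
  let : Field (B ⧸ M) := Ideal.Quotient.field M
  have : Module.Finite k (B ⧸ M) := finite_of_finite_type_of_isJacobsonRing k (B ⧸ M)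
  let e : k ≃ₐ[k] (B ⧸ M) := AlgEquiv.ofBijective (Algebra.ofId k (B ⧸ M))
    (IsAlgClosed.algebraMap_bijective_of_isIntegral)
  let g : B →ₐ[k] k := e.symm.toAlgHom.comp (Ideal.Quotient.mkₐ k M)
  refine ⟨locEquiv (translEquiv g) M (augI k B) fun a => ?_⟩
  rw [RingHom.mem_ker, cou_translEquiv]
  simp [g, Ideal.Quotient.eq_zero_iff_mem]

theorem ringKrullDim_eq_origin [IsAlgClosed k] [Algebra.FiniteType k B] :
    ringKrullDim B = ringKrullDim (Bo k B) := by
  have : Nontrivial B := (cou (k := k) (B := B)).toRingHom.domain_nontrivial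
  have hM : ∀ (M : Ideal B) [M.IsMaximal], M.height = (augI k B).height := by
    intro M _
    obtain ⟨e⟩ := exists_locEquiv (k := k) M
    have := ringKrullDim_eq_of_ringEquiv e.toRingEquiv
    rw [IsLocalization.AtPrime.ringKrullDim_eq_height M (Localization.AtPrime M),
      IsLocalization.AtPrime.ringKrullDim_eq_height (augI k B) (Bo k B)] at this
    exact WithBot.coe_inj.1 this
  rw [← Ideal.sup_isMaximal_height_eq_ringKrullDim,
    IsLocalization.AtPrime.ringKrullDim_eq_height (augI k B) (Bo k B), WithBot.coe_inj]
  refine le_antisymm (iSup₂_le fun M hM' => ?_) (le_iSup₂_of_le (augI k B) isMaximal_augI le_rfl)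
  exact (@hM M hM').le

variable [IsNoetherianRing B]

lemma finite_cotangent : Module.Finite k (augI k B).Cotangent := by
  obtain ⟨T, hT⟩ := (Module.Finite.of_surjective (augI k B).toCotangent
      (augI k B).toCotangent_surjective).fg_top
  refine ⟨⟨T, eq_top_iff.2 fun z _ => ?_⟩⟩
  have hz : z ∈ Submodule.span B (T : Set (augI k B).Cotangent) := hT ▸ trivial
  induction hz using Submodule.span_induction with
  | mem y hy => exact Submodule.subset_span hy
  | zero => exact zero_mem _
  | add y z _ _ hy hz => exact add_mem (hy trivial) (hz trivial)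
  | smul c y _ hy =>
    obtain ⟨y', rfl⟩ := (augI k B).toCotangent_surjective y
    have : c • (augI k B).toCotangent y' = cou (k := k) c • (augI k B).toCotangent y' := by
      rw [← map_smul, ← LinearMap.map_smul_of_tower (augI k B).toCotangent, Ideal.toCotangent_eq]
      simp only [SetLike.val_smul, smul_eq_mul, SetLike.val_smul_of_tower, Algebra.smul_def]
      rw [← sub_mul, pow_two]
      exact Ideal.mul_mem_mul (sub_mem_augI c) y'.2
    rw [this]
    exact Submodule.smul_mem _ _ (hy trivial)

theorem spanFinrank_origin :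
    (maximalIdeal (Bo k B)).spanFinrank = Module.finrank k (augI k B).Cotangent := by
  classical
  have := finite_cotangent (k := k) (B := B)
  let b := Module.finBasis k (augI k B).Cotangent
  choose y hy using fun i => (augI k B).toCotangent_surjective (b i)
  apply le_antisymm
  · -- the lifts of a basis generate, by Nakayama
    let S : Set (Bo k B) := Set.range fun i => algebraMap B (Bo k B) (y i : B)
    have hle : maximalIdeal (Bo k B) ≤ Ideal.span S := by
      refine Submodule.le_of_le_smul_of_le_jacobson_bot (IsNoetherian.noetherian _)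
        (IsLocalRing.maximalIdeal_le_jacobson _) ?_
      rw [smul_eq_mul, ← Localization.AtPrime.map_eq_maximalIdeal, ← Ideal.map_mul, Ideal.map_le_iff_le_comap]
      intro a ha
      rw [Ideal.mem_comap]
      have h1 : a - ∑ i, algebraMap k B (b.coord i (cotProj k B a)) * (y i : B) ∈ augI k B * augI k B := by
        have hs : ∑ i, algebraMap k B (b.coord i (cotProj k B a)) * (y i : B) ∈ augI k B :=
          Ideal.sum_mem _ fun i _ => Ideal.mul_mem_left _ _ (y i).2
        rw [← pow_two, ← Ideal.toCotangent_eq_zero (augI k B) ⟨_, sub_mem ha hs⟩, ← cotProj_of_mem,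
          map_sub, map_sum, sub_eq_zero]
        simp only [← Algebra.smul_def, map_smul, cotProj_of_mem (y _).2, Subtype.coe_eta, hy]
        exact (b.sum_repr _).symm
      rw [← sub_add_cancel a (∑ i, algebraMap k B (b.coord i (cotProj k B a)) * (y i : B)), map_add]
      refine add_mem (Submodule.mem_sup_right (Ideal.mem_map_of_mem _ h1)) (Submodule.mem_sup_left ?_)
      rw [map_sum]
      refine Ideal.sum_mem _ fun i _ => ?_
      rw [map_mul]
      exact Ideal.mul_mem_left _ _ (Ideal.subset_span ⟨i, rfl⟩)
    have heq : maximalIdeal (Bo k B) = Submodule.span (Bo k B) S := le_antisymm hle (Ideal.span_le.2 (by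
      rintro _ ⟨i, rfl⟩
      rw [← Localization.AtPrime.map_eq_maximalIdeal]
      exact Ideal.mem_map_of_mem _ (y i).2))
    rw [heq]
    refine (Submodule.spanFinrank_span_le_ncard_of_finite (Set.finite_range _)).trans ?_
    rw [← Set.image_univ, ← Finset.coe_univ, ← Finset.coe_image, Set.ncard_coe_finset]
    exact Finset.card_image_le.trans (by simp)
  · obtain ⟨T, hTcard, hTspan⟩ := (IsNoetherian.noetherian (maximalIdeal (Bo k B))).exists_span_finset_card_eq_spanFinrank
    let E := IsLocalization.AtPrime.equivQuotMaximalIdealPow (augI k B) (Bo k B) 2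
    have hlift : ∀ z : Bo k B, ∃ a : B, algebraMap B (Bo k B) a - z ∈ maximalIdeal (Bo k B) ^ 2 := by
      intro z
      obtain ⟨q, hq⟩ := E.surjective (Ideal.Quotient.mk _ z)
      obtain ⟨a, rfl⟩ := Ideal.Quotient.mk_surjective q
      exact ⟨a, Ideal.Quotient.eq.1 hq⟩
    choose a ha using hlift
    let Φ := (augI k B).cotangentToQuotientSquare.restrictScalars k
    have hΦ : Function.Injective Φ := (augI k B).cotangentToQuotientSquare_injective
    rw [← LinearMap.finrank_range_of_inj hΦ, ← hTcard]
    let Ta : Finset (B ⧸ augI k B ^ 2) := T.image fun t => Ideal.Quotient.mk _ (a t)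
    have hrange : LinearMap.range Φ ≤ Submodule.span k (Ta : Set (B ⧸ augI k B ^ 2)) := by
      rintro _ ⟨q, rfl⟩
      obtain ⟨⟨b', hb'⟩, rfl⟩ := (augI k B).toCotangent_surjective q
      have hm : algebraMap B (Bo k B) b' ∈ Submodule.span (Bo k B) (T : Set (Bo k B)) := by
        rw [hTspan, ← Localization.AtPrime.map_eq_maximalIdeal]
        exact Ideal.mem_map_of_mem _ hb'
      obtain ⟨c, -, hc⟩ := Submodule.mem_span_finset.1 hm
      let lam : Bo k B → k := fun z => cou (k := k) (a z)
      have hdiff : b' - ∑ t ∈ T, algebraMap k B (lam (c t)) * a t ∈ augI k B ^ 2 := by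
        rw [← Ideal.Quotient.eq_zero_iff_mem]
        apply E.injective
        rw [map_zero]
        refine (IsLocalization.AtPrime.equivQuotMaximalIdealPow_apply_mk _ _ _ _).trans ?_
        rw [Ideal.Quotient.eq_zero_iff_mem, map_sub, map_sum, ← hc, ← Finset.sum_sub_distrib]
        refine Ideal.sum_mem _ fun t ht => ?_
        have htm : t ∈ maximalIdeal (Bo k B) := by
          rw [← hTspan]
          exact Submodule.subset_span ht
        have h1 : c t - algebraMap B (Bo k B) (algebraMap k B (lam (c t))) ∈ maximalIdeal (Bo k B) := by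
          rw [← sub_add_sub_cancel (c t) (algebraMap B (Bo k B) (a (c t))) _, ← map_sub]
          refine add_mem (Ideal.pow_le_self two_ne_zero ?_) ?_
          · rw [← neg_sub]
            exact neg_mem (ha (c t))
          · rw [← Localization.AtPrime.map_eq_maximalIdeal]
            exact Ideal.mem_map_of_mem _ (sub_mem_augI _)
        rw [smul_eq_mul, map_mul, show c t * t - algebraMap B (Bo k B) (algebraMap k B (lam (c t))) *
          algebraMap B (Bo k B) (a t) = (c t - algebraMap B (Bo k B) (algebraMap k B (lam (c t)))) * t -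
            algebraMap B (Bo k B) (algebraMap k B (lam (c t))) * (algebraMap B (Bo k B) (a t) - t) by ring]
        refine sub_mem ?_ (Ideal.mul_mem_left _ _ (ha t))
        rw [pow_two]
        exact Ideal.mul_mem_mul h1 htm
      have heq : Φ ((augI k B).toCotangent ⟨b', hb'⟩) =
          ∑ t ∈ T, lam (c t) • Ideal.Quotient.mk (augI k B ^ 2) (a t) := by
        show Ideal.Quotient.mk (augI k B ^ 2) b' = _
        rw [Ideal.Quotient.eq.2 hdiff, map_sum]
        refine Finset.sum_congr rfl fun t _ => ?_
        rw [map_mul, Algebra.smul_def]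
        rfl
      rw [heq]
      exact Submodule.sum_mem _ fun t ht => Submodule.smul_mem _ _
        (Submodule.subset_span (Finset.mem_coe.2 (Finset.mem_image_of_mem _ ht)))
    exact (Submodule.finrank_mono hrange).trans ((finrank_span_finset_le_card Ta).trans Finset.card_image_le)

/-- The base change of the augmentation ideal. -/
lemma augI_baseChange (L : Type w) [Field L] [Algebra k L] :
    augI L (L ⊗[k] B) = (augI k B).map (Algebra.TensorProduct.includeRight.toRingHom : B →+* L ⊗[k] B) := by
  refine le_antisymm (fun z hz => ?_) (Ideal.map_le_iff_le_comap.2 fun a ha => ?_)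
  · have key : ∀ z : L ⊗[k] B, z - algebraMap L (L ⊗[k] B) (cou (k := L) z) ∈
        (augI k B).map (Algebra.TensorProduct.includeRight.toRingHom : B →+* L ⊗[k] B) := by
      intro z
      induction z with
      | zero => simp
      | add x y hx hy =>
        rw [map_add, map_add, add_sub_add_comm]
        exact add_mem hx hy
      | tmul l a =>
        have e : l ⊗ₜ[k] a - algebraMap L (L ⊗[k] B) (cou (k := L) (l ⊗ₜ[k] a)) =
            (l ⊗ₜ[k] (1 : B)) * ((1 : L) ⊗ₜ[k] (a - algebraMap k B (cou (k := k) a))) := by
          rw [Algebra.TensorProduct.tmul_mul_tmul, mul_one, one_mul, tmul_sub]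
          congr 1
          rw [Algebra.algebraMap_eq_smul_one (cou (k := k) a), tmul_smul, smul_tmul',
            Algebra.TensorProduct.algebraMap_apply]
          simp
        rw [e]
        exact Ideal.mul_mem_left _ _ (Ideal.mem_map_of_mem _ (sub_mem_augI a))
    have := key z
    rwa [(RingHom.mem_ker).1 hz, map_zero, sub_zero] at this
  · have h0 : CoalgebraStruct.counit (R := k) a = 0 := ha
    simp [RingHom.mem_ker, h0]

lemma finrank_cotangent_baseChange (L : Type w) [Field L] [Algebra k L] :
    Module.finrank L (augI L (L ⊗[k] B)).Cotangent = Module.finrank k (augI k B).Cotangent := by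
  rw [augI_baseChange, ← ((augI k B).tensorCotangentEquiv k L).finrank_eq, Module.finrank_baseChange]

omit [IsNoetherianRing B] in
theorem dim_alg_closed [IsAlgClosed k] [Algebra.FiniteType k B] :
    ringKrullDim B ≤ (Module.finrank k (augI k B).Cotangent : WithBot ℕ∞) ∧
      (ringKrullDim B = (Module.finrank k (augI k B).Cotangent : WithBot ℕ∞) ↔
        Algebra.FormallySmooth k B) := by
  have : IsNoetherianRing B := Algebra.FiniteType.isNoetherianRing k B
  rw [ringKrullDim_eq_origin (k := k), ← spanFinrank_origin]
  refine ⟨ringKrullDim_le_spanFinrank_maximalIdeal _, fun h => ?_, fun h => ?_⟩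
  · have hreg : IsRegularLocalRing (Bo k B) := (isRegularLocalRing_iff _).2 h.symm
    refine formallySmooth_of_maximal fun M _ => ?_
    obtain ⟨e⟩ := exists_locEquiv (k := k) M
    exact (isRegular_iff_isSmoothAt M).2 (IsRegularLocalRing.of_ringEquiv e.symm.toRingEquiv)
  · have : Algebra.IsSmoothAt k (augI k B) := by
      have : Algebra.FormallyEtale B (Localization.AtPrime (augI k B)) :=
        Algebra.FormallyEtale.of_isLocalization (augI k B).primeCompl
      exact Algebra.FormallySmooth.comp k B _
    exact ((isRegularLocalRing_iff _).1 ((isRegular_iff_isSmoothAt (augI k B)).1 this)).symm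

omit [IsNoetherianRing B] in
theorem dim_main [Algebra.FiniteType k B] :
    ringKrullDim B ≤ (Module.finrank k (augI k B).Cotangent : WithBot ℕ∞) ∧
      (ringKrullDim B = (Module.finrank k (augI k B).Cotangent : WithBot ℕ∞) ↔
        Algebra.FormallySmooth k B) := by
  have : IsNoetherianRing B := Algebra.FiniteType.isNoetherianRing k B
  let L := AlgebraicClosure k
  have hdim : ringKrullDim (L ⊗[k] B) = ringKrullDim B := by
    let : Algebra B (L ⊗[k] B) := Algebra.TensorProduct.includeRight.toRingHom.toAlgebra
    have : Algebra.IsIntegral B (L ⊗[k] B) := ⟨fun z => by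
      induction z with
      | zero => exact isIntegral_zero
      | add x y hx hy => exact hx.add hy
      | tmul l a =>
        have h1 : IsIntegral B ((l ⊗ₜ 1 : L ⊗[k] B)) := by
          obtain ⟨p, hp, hpl⟩ := Algebra.IsIntegral.isIntegral (R := k) l
          refine ⟨p.map (algebraMap k B), hp.map _, ?_⟩
          rw [Polynomial.eval₂_map, show (algebraMap B (L ⊗[k] B)).comp (algebraMap k B) =
            (Algebra.TensorProduct.includeLeftRingHom : L →+* L ⊗[k] B).comp (algebraMap k L) by
              ext c
              show (1 : L) ⊗ₜ[k] algebraMap k B c = algebraMap k L c ⊗ₜ[k] (1 : B)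
              rw [Algebra.algebraMap_eq_smul_one, Algebra.algebraMap_eq_smul_one, smul_tmul],
            show (l ⊗ₜ 1 : L ⊗[k] B) = Algebra.TensorProduct.includeLeftRingHom l from rfl,
            ← Polynomial.hom_eval₂, hpl, map_zero]
        have h2 : IsIntegral B (((1 : L) ⊗ₜ a : L ⊗[k] B)) := isIntegral_algebraMap (x := a)
        simpa using h1.mul h2⟩
    exact CommAlgDim.ringKrullDim_eq_of_integral B (L ⊗[k] B)
      (Algebra.TensorProduct.includeRight_injective (FaithfulSMul.algebraMap_injective k L))
  have h := dim_alg_closed (k := L) (B := L ⊗[k] B)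
  rw [hdim, finrank_cotangent_baseChange] at h
  refine ⟨h.1, h.2.trans ⟨fun hs => ?_, fun hs => inferInstance⟩⟩
  have : Algebra.FinitePresentation L (L ⊗[k] B) := Algebra.FinitePresentation.of_finiteType.1 inferInstance
  have : Algebra.Smooth L (L ⊗[k] B) := ⟨hs, inferInstance⟩
  exact (Algebra.Smooth.of_smooth_tensorProduct_of_faithfullyFlat (R := k) (S := B) L).formallySmooth

end Groth.Agent.GrpSchLib.HopfRed
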