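import Groth.Agent.GrpSchLib.CartierAlg
import Mathlib

/-! Cartier's theorem for Hopf algebras: a finitely generated commutative Hopf algebra over a field
of characteristic zero is reduced. -/

noncomputable section

universe u v w

open TensorProduct WithConv IsLocalRing

namespace Groth.Agent.GrpSchLib.HopfRed

variable {k : Type u} [Field k] {B : Type v} [CommRing B] [HopfAlgebra k B]

/-- Dual numbers map along an algebra homomorphism. -/
def dnA {R : Type w} {S : Type v} [CommRing R] [CommRing S] [Algebra k R] [Algebra k S] (g : R →ₐ[k] S) :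
    DualNumber R →ₐ[k] DualNumber S where
  toFun z := TrivSqZeroExt.inl (g z.fst) + TrivSqZeroExt.inr (g z.snd)
  map_one' := by ext <;> simp
  map_zero' := by ext <;> simp
  map_add' a b := by ext <;> simp
  map_mul' a b := by ext <;> simp
  commutes' c := by ext <;> simp [TrivSqZeroExt.algebraMap_eq_inl']

/-- Translation by a point. -/
def transl (g : B →ₐ[k] k) : B →ₐ[k] B :=
  (toConv (AlgHom.id k B) * toConv ((Algebra.ofId k B).comp g)).ofConv

lemma comp_transl (h g : B →ₐ[k] k) : h.comp (transl g) = (toConv h * toConv g).ofConv := by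
  have : (h.comp (Algebra.ofId k B)).comp g = g := by
    rw [Subsingleton.elim (h.comp (Algebra.ofId k B)) (AlgHom.id k k), AlgHom.id_comp]
  rw [transl, AlgHom.comp_convMul_distrib, AlgHom.comp_id, ← AlgHom.comp_assoc, this]

lemma transl_comp_transl (g h : B →ₐ[k] k) :
    (transl g).comp (transl h) = transl (toConv g * toConv h).ofConv := by
  have e : ∀ f : B →ₐ[k] k, (transl g).comp ((Algebra.ofId k B).comp f) = (Algebra.ofId k B).comp f := by
    intro f
    rw [← AlgHom.comp_assoc, Subsingleton.elim ((transl g).comp (Algebra.ofId k B)) (Algebra.ofId k B)]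
  calc (transl g).comp (transl h)
      = (toConv ((transl g).comp (AlgHom.id k B)) *
          toConv ((transl g).comp ((Algebra.ofId k B).comp h))).ofConv := AlgHom.comp_convMul_distrib _ _ _
    _ = (toConv (AlgHom.id k B) * toConv ((Algebra.ofId k B).comp g) *
          toConv ((Algebra.ofId k B).comp h)).ofConv := by rw [AlgHom.comp_id, e]; rfl
    _ = _ := by rw [transl, AlgHom.comp_convMul_distrib, mul_assoc]

lemma transl_one : transl (k := k) (B := B) (1 : WithConv (B →ₐ[k] k)).ofConv = AlgHom.id k B := by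
  have : toConv ((Algebra.ofId k B).comp (1 : WithConv (B →ₐ[k] k)).ofConv) = 1 := by
    rw [AlgHom.convOne_def, AlgHom.convOne_def]
    congr 1
  rw [transl, this, mul_one]

/-- The counit point. -/
abbrev cou : B →ₐ[k] k := Bialgebra.counitAlgHom k B

lemma one_eq_cou : (1 : WithConv (B →ₐ[k] k)).ofConv = cou := by
  rw [AlgHom.convOne_def]
  exact AlgHom.id_comp _

instance isPrime_ker_cou : (RingHom.ker (cou (k := k) (B := B))).IsPrime :=
  RingHom.ker_isPrime (cou (k := k) (B := B))

/-- A tangent vector at the origin propagates to the ring. -/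
lemma exists_dual_hom (φ : B →ₐ[k] DualNumber k) (hφ : ∀ b, TrivSqZeroExt.fst (φ b) = cou (k := k) b) :
    ∃ ψ : B →ₐ[k] DualNumber B, (∀ b, TrivSqZeroExt.fst (ψ b) = b) ∧
      ∀ b, cou (k := k) (TrivSqZeroExt.snd (ψ b)) = TrivSqZeroExt.snd (φ b) := by
  let inlA : B →ₐ[k] DualNumber B := IsScalarTower.toAlgHom k B (DualNumber B)
  let ψ : B →ₐ[k] DualNumber B := (toConv inlA * toConv ((dnA (Algebra.ofId k B)).comp φ)).ofConv
  have hfst : (TrivSqZeroExt.fstHom k B B).comp ψ = AlgHom.id k B := by
    have e1 : (TrivSqZeroExt.fstHom k B B).comp inlA = AlgHom.id k B := by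
      refine AlgHom.ext fun b => ?_
      simp [inlA, TrivSqZeroExt.algebraMap_eq_inl']
    have e2 : (TrivSqZeroExt.fstHom k B B).comp ((dnA (Algebra.ofId k B)).comp φ) =
        (Algebra.ofId k B).comp cou := by
      refine AlgHom.ext fun b => ?_
      simp [dnA, hφ]
    rw [AlgHom.comp_convMul_distrib, e1, e2]
    have : toConv ((Algebra.ofId k B).comp (cou (k := k) (B := B))) = 1 := AlgHom.convOne_def.symm
    rw [this, mul_one]
  have hsnd : (dnA (cou (k := k) (B := B))).comp ψ = φ := by
    have e1 : (dnA (cou (k := k) (B := B))).comp inlA = (Algebra.ofId k (DualNumber k)).comp cou := by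
      refine AlgHom.ext fun b => ?_
      ext <;> simp [dnA, inlA, TrivSqZeroExt.algebraMap_eq_inl', Algebra.ofId_apply]
    have e2 : (dnA (cou (k := k) (B := B))).comp ((dnA (Algebra.ofId k B)).comp φ) = φ := by
      refine AlgHom.ext fun b => ?_
      ext <;> simp [dnA, Algebra.ofId_apply]
    rw [AlgHom.comp_convMul_distrib, e1, e2]
    have : toConv ((Algebra.ofId k (DualNumber k)).comp (cou (k := k) (B := B))) = 1 :=
      AlgHom.convOne_def.symm
    rw [this]
    exact congrArg WithConv.ofConv (one_mul (toConv φ))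
  refine ⟨ψ, AlgHom.congr_fun hfst, fun b => ?_⟩
  have h := congrArg TrivSqZeroExt.snd (AlgHom.congr_fun hsnd b)
  simpa [dnA] using h

omit [HopfAlgebra k B] in
/-- Extending to a localisation. -/
lemma exists_loc_dual [Algebra k B] (S : Submonoid B) (R : Type v) [CommRing R] [Algebra B R] [Algebra k R]
    [IsScalarTower k B R] [IsLocalization S R] (ψ : B →ₐ[k] DualNumber B)
    (hψ : ∀ b, TrivSqZeroExt.fst (ψ b) = b) :
    ∃ ψ' : R →ₐ[k] DualNumber R, (∀ r, TrivSqZeroExt.fst (ψ' r) = r) ∧
      ∀ b, TrivSqZeroExt.snd (ψ' (algebraMap B R b)) = algebraMap B R (TrivSqZeroExt.snd (ψ b)) := by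
  let toR : DualNumber B →ₐ[k] DualNumber R := dnA (IsScalarTower.toAlgHom k B R)
  let ψ' : R →ₐ[k] DualNumber R :=
    IsLocalization.liftAlgHom (M := S) (f := toR.comp ψ) fun s => by
      rw [TrivSqZeroExt.isUnit_iff_isUnit_fst]
      simpa [toR, dnA, hψ] using IsLocalization.map_units R s
  have hψ' : ∀ b, ψ' (algebraMap B R b) = toR (ψ b) := fun b => IsLocalization.lift_eq _ b
  have h1 : (TrivSqZeroExt.fstHom k R R).comp ψ' = AlgHom.id k R := by
    refine IsLocalization.algHom_ext S (AlgHom.ext fun b => ?_)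
    show TrivSqZeroExt.fst (ψ' (algebraMap B R b)) = algebraMap B R b
    simp [hψ', toR, dnA, hψ]
  exact ⟨ψ', AlgHom.congr_fun h1, fun b => by simp [hψ', toR, dnA, Algebra.smul_def, TrivSqZeroExt.algebraMap_eq_inl']⟩

omit [HopfAlgebra k B] in
/-- Derivations from lifts to dual numbers. -/
lemma exists_derivation {R : Type v} [CommRing R] [Algebra k R] (ψ : R →ₐ[k] DualNumber R)
    (h : ∀ r, TrivSqZeroExt.fst (ψ r) = r) :
    ∃ D : Derivation k R R, ∀ r, D r = TrivSqZeroExt.snd (ψ r) := by
  refine ⟨Derivation.mk' ((TrivSqZeroExt.sndHom R R).restrictScalars k ∘ₗ ψ.toLinearMap) fun f g => ?_,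
    fun r => rfl⟩
  show TrivSqZeroExt.snd (ψ (f * g)) = f • TrivSqZeroExt.snd (ψ g) + g • TrivSqZeroExt.snd (ψ f)
  rw [map_mul, TrivSqZeroExt.snd_mul, h, h, op_smul_eq_smul]

omit [HopfAlgebra k B] in
/-- The homomorphism attached to a tangent vector. -/
lemma exists_tangent {R : Type v} [CommRing R] [Algebra k R] [IsLocalRing R] (ev : R →ₐ[k] k)
    (v : R →ₗ[k] k) (hv1 : v 1 = 0) (hv2 : ∀ f ∈ maximalIdeal R ^ 2, v f = 0) :
    ∃ φ : R →ₐ[k] DualNumber k, (∀ r, TrivSqZeroExt.fst (φ r) = ev r) ∧ ∀ r, TrivSqZeroExt.snd (φ r) = v r := by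
  have hmem : ∀ f, f - algebraMap k R (ev f) ∈ maximalIdeal R := by
    intro f
    by_contra hu
    rw [IsLocalRing.mem_maximalIdeal, mem_nonunits_iff, not_not] at hu
    have := hu.map ev
    rw [map_sub, ev.commutes, Algebra.algebraMap_self, RingHom.id_apply, sub_self] at this
    exact not_isUnit_zero this
  have hvmul : ∀ f g, v (f * g) = ev f * v g + ev g * v f := by
    intro f g
    have h := hv2 _ (by rw [pow_two]; exact Ideal.mul_mem_mul (hmem f) (hmem g))
    rw [show (f - algebraMap k R (ev f)) * (g - algebraMap k R (ev g)) =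
      f * g - ev f • g - ev g • f + (ev f * ev g) • (1 : R) by simp [Algebra.smul_def]; ring] at h
    simp only [map_add, map_sub, map_smul, hv1, smul_eq_mul] at h
    linear_combination h
  refine ⟨{ toFun := fun f => TrivSqZeroExt.inl (ev f) + TrivSqZeroExt.inr (v f)
            map_one' := by ext <;> simp [hv1]
            map_zero' := by ext <;> simp
            map_add' := fun f g => by ext <;> simp
            map_mul' := fun f g => by ext <;> simp [hvmul, mul_comm]
            commutes' := fun c => by
              ext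
              · simp [TrivSqZeroExt.algebraMap_eq_inl']
              · rw [Algebra.algebraMap_eq_smul_one (A := R), map_smul, map_smul, map_one, hv1]
                simp [TrivSqZeroExt.algebraMap_eq_inl'] }, fun r => by simp, fun r => by simp⟩

variable [CharZero k] [IsNoetherianRing B]

/-- The local ring at the origin is reduced. -/
theorem isReduced_localization :
    IsReduced (Localization.AtPrime (RingHom.ker (cou (k := k) (B := B)))) := by
  let P := RingHom.ker (cou (k := k) (B := B))
  let ev : Localization.AtPrime P →ₐ[k] k :=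
    IsLocalization.liftAlgHom (M := P.primeCompl) (f := cou) fun s => Ne.isUnit s.2
  have hev : ∀ b, ev (algebraMap B _ b) = cou (k := k) b := fun b => IsLocalization.lift_eq _ b
  refine isReduced_of_derivations ev fun v hv1 hv2 => ?_
  obtain ⟨φ, hφ1, hφ2⟩ := exists_tangent ev v hv1 hv2
  obtain ⟨ψ, hψ1, hψ2⟩ := exists_dual_hom (φ.comp (IsScalarTower.toAlgHom k B _))
    (fun b => (hφ1 _).trans (hev b))
  obtain ⟨ψ', hψ'1, hψ'2⟩ := exists_loc_dual P.primeCompl (Localization.AtPrime P) ψ hψ1
  obtain ⟨D, hD⟩ := exists_derivation ψ' hψ'1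
  refine ⟨D, ?_⟩
  -- both sides are derivations at `ev`, and agree on the image of `B`
  have key : (dnA ev).comp ψ' = φ := by
    refine IsLocalization.algHom_ext P.primeCompl (AlgHom.ext fun b => ?_)
    show dnA ev (ψ' (algebraMap B _ b)) = φ (algebraMap B _ b)
    ext
    · rw [hφ1]
      simp [dnA, hψ'1]
    · refine Eq.trans ?_ (hψ2 b)
      simp [dnA, hψ'2, hev]
  intro f
  have h := congrArg TrivSqZeroExt.snd (AlgHom.congr_fun key f)
  rw [hD, ← hφ2]
  refine Eq.trans ?_ h
  simp [dnA]

/-- Nilpotents vanish near every rational point. -/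
lemma exists_mul_eq_zero {f : B} (hf : IsNilpotent f) (g : B →ₐ[k] k) :
    ∃ s : B, g s ≠ 0 ∧ s * f = 0 := by
  have := isReduced_localization (k := k) (B := B)
  obtain ⟨s, hs⟩ := (IsLocalization.map_eq_zero_iff (RingHom.ker (cou (k := k) (B := B))).primeCompl
    (Localization.AtPrime (RingHom.ker (cou (k := k) (B := B)))) _).1
    ((hf.map (transl g)).map (algebraMap B _)).eq_zero
  let h : B →ₐ[k] k := ((toConv g)⁻¹).ofConv
  refine ⟨transl h (s : B), ?_, ?_⟩
  · have e : g.comp (transl h) = cou := by
      rw [comp_transl, show toConv g * toConv h = 1 from mul_inv_cancel _, one_eq_cou]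
    have := AlgHom.congr_fun e (s : B)
    simp only [AlgHom.coe_comp, Function.comp_apply] at this
    rw [this]
    exact s.2
  · have e : (transl h).comp (transl g) = AlgHom.id k B := by
      rw [transl_comp_transl, show toConv h * toConv g = 1 from inv_mul_cancel _, transl_one]
    have := AlgHom.congr_fun e f
    simp only [AlgHom.coe_comp, Function.comp_apply, AlgHom.id_apply] at this
    rw [← this, ← map_mul, hs, map_zero]

omit [IsNoetherianRing B] in
theorem isReduced_of_isAlgClosed [IsAlgClosed k] [Algebra.FiniteType k B] : IsReduced B := by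
  have : IsNoetherianRing B := Algebra.FiniteType.isNoetherianRing k B
  refine ⟨fun f hf => ?_⟩
  by_contra h0
  obtain ⟨M, hM, hle⟩ := Ideal.exists_le_maximal (Submodule.annihilator (Submodule.span B {f}))
    (by rw [Ne, Submodule.annihilator_eq_top_iff, Submodule.span_singleton_eq_bot]; exact h0)
  let : Field (B ⧸ M) := Ideal.Quotient.field M
  have : Module.Finite k (B ⧸ M) := finite_of_finite_type_of_isJacobsonRing k (B ⧸ M)
  let e : k ≃ₐ[k] (B ⧸ M) := AlgEquiv.ofBijective (Algebra.ofId k (B ⧸ M))
    (IsAlgClosed.algebraMap_bijective_of_isIntegral)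
  let g : B →ₐ[k] k := e.symm.toAlgHom.comp (Ideal.Quotient.mkₐ k M)
  obtain ⟨s, hs, hsf⟩ := exists_mul_eq_zero hf g
  refine hs ?_
  have : s ∈ M := hle (Submodule.mem_annihilator_span_singleton _ _ |>.2 hsf)
  simp [g, Ideal.Quotient.eq_zero_iff_mem.2 this]

omit [IsNoetherianRing B] in
/-- **Cartier's theorem for Hopf algebras.** -/
theorem isReduced_of_finiteType [Algebra.FiniteType k B] : IsReduced B := by
  let L := AlgebraicClosure k
  have : CharZero L := charZero_of_injective_algebraMap (FaithfulSMul.algebraMap_injective k L)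
  have : IsReduced (L ⊗[k] B) := isReduced_of_isAlgClosed (k := L)
  exact isReduced_of_injective (Algebra.TensorProduct.includeRight : B →ₐ[k] L ⊗[k] B)
    (Algebra.TensorProduct.includeRight_injective (FaithfulSMul.algebraMap_injective k L))

end Groth.Agent.GrpSchLib.HopfRed
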