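import Groth.Agent.GrpSchLib.CartierAlg
import Mathlib.AlgebraicGeometry.Group.Smooth

/-! Cartier's theorem: group schemes over fields of characteristic zero are smooth. -/

noncomputable section

universe u

open CategoryTheory AlgebraicGeometry MonoidalCategory CartesianMonoidalCategory MonObj IsLocalRing

namespace Groth.Agent.GrpSchLib

section DualRing

/-- The dual numbers, bundled. -/
abbrev dn (R : CommRingCat.{u}) : CommRingCat.{u} := CommRingCat.of (DualNumber R)

/-- The inclusion of scalars. -/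
def dnInl (R : CommRingCat.{u}) : R ⟶ dn R :=
  CommRingCat.ofHom (TrivSqZeroExt.inlHom (R : Type u) (R : Type u))

/-- Reduction modulo `ε`. -/
def dnFst (R : CommRingCat.{u}) : dn R ⟶ R :=
  CommRingCat.ofHom (TrivSqZeroExt.fstHom (R : Type u) (R : Type u) (R : Type u)).toRingHom

/-- Dual numbers map along a ring homomorphism. -/
def dnMap {R S : Type u} [CommRing R] [CommRing S] (g : R →+* S) : DualNumber R →+* DualNumber S where
  toFun z := TrivSqZeroExt.inl (g z.fst) + TrivSqZeroExt.inr (g z.snd)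
  map_one' := by ext <;> simp
  map_zero' := by ext <;> simp
  map_add' a b := by ext <;> simp
  map_mul' a b := by ext <;> simp

/-- Dual numbers map along a ring homomorphism. -/
def dnMapC {R S : CommRingCat.{u}} (g : R ⟶ S) : dn R ⟶ dn S := CommRingCat.ofHom (dnMap g.hom)

lemma dnInl_fst (R : CommRingCat.{u}) : dnInl R ≫ dnFst R = 𝟙 R := by
  refine CommRingCat.hom_ext (RingHom.ext fun x => ?_)
  simp [dnInl, dnFst]

lemma dnInl_map {R S : CommRingCat.{u}} (g : R ⟶ S) : dnInl R ≫ dnMapC g = g ≫ dnInl S := by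
  refine CommRingCat.hom_ext (RingHom.ext fun x => ?_)
  ext <;> simp [dnInl, dnMapC, dnMap]

lemma dnMap_fst {R S : CommRingCat.{u}} (g : R ⟶ S) : dnMapC g ≫ dnFst S = dnFst R ≫ g := by
  refine CommRingCat.hom_ext (RingHom.ext fun x => ?_)
  simp [dnFst, dnMapC, dnMap]

lemma dnMap_id_of {R S : CommRingCat.{u}} (g : R ⟶ S) (h : S ⟶ R) (e : g ≫ h = 𝟙 R) :
    dnMapC g ≫ dnMapC h = 𝟙 (dn R) := by
  refine CommRingCat.hom_ext (RingHom.ext fun x => ?_)
  ext <;> simp [dnMapC, dnMap] <;> exact congr($e _)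

instance (R : CommRingCat.{u}) [IsLocalRing R] : IsLocalRing (dn R) :=
  have : IsLocalHom (dnFst R).hom := ⟨fun z hz => TrivSqZeroExt.isUnit_iff_isUnit_fst.2 hz⟩
  RingHom.domain_isLocalRing (dnFst R).hom

lemma snd_eq {R S : CommRingCat.{u}} (g : R ⟶ S) (z : dn R) :
    TrivSqZeroExt.snd ((dnMapC g) z) = g (TrivSqZeroExt.snd z) := by
  simp [dnMapC, dnMap]

variable {k R : Type u} [CommRing k] [CommRing R] [Algebra k R]

/-- The homomorphism attached to a tangent vector. -/
def tangentHom (ev : R →ₐ[k] k) (v : R →ₗ[k] k) (hv1 : v 1 = 0)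
    (hvmul : ∀ f g, v (f * g) = ev f * v g + ev g * v f) : R →+* DualNumber k where
  toFun f := TrivSqZeroExt.inl (ev f) + TrivSqZeroExt.inr (v f)
  map_one' := by ext <;> simp [hv1]
  map_zero' := by ext <;> simp
  map_add' f g := by ext <;> simp
  map_mul' f g := by ext <;> simp [hvmul, mul_comm]

/-- Reducedness from lifts of tangent vectors to dual numbers. -/
theorem isReduced_of_dual_lifts {k : Type u} [Field k] [CharZero k] [Algebra k R] [IsLocalRing R]
    [IsNoetherianRing R] (ev : R →ₐ[k] k)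
    (H : ∀ φ : R →+* DualNumber k, (∀ c : k, φ (algebraMap k R c) = TrivSqZeroExt.inl c) →
      (∀ f, TrivSqZeroExt.fst (φ f) = ev f) → ∃ ψ : R →+* DualNumber R,
        (∀ c : k, ψ (algebraMap k R c) = TrivSqZeroExt.inl (algebraMap k R c)) ∧
        (∀ f, TrivSqZeroExt.fst (ψ f) = f) ∧
        ∀ f, ev (TrivSqZeroExt.snd (ψ f)) = TrivSqZeroExt.snd (φ f)) :
    _root_.IsReduced R := by
  refine isReduced_of_derivations ev fun v hv1 hv2 => ?_
  have hmem : ∀ f, f - algebraMap k R (ev f) ∈ maximalIdeal R := by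
    intro f
    by_contra hu
    rw [IsLocalRing.mem_maximalIdeal, mem_nonunits_iff, not_not] at hu
    have := hu.map ev
    rw [map_sub, ev.commutes, Algebra.algebraMap_self, RingHom.id_apply, sub_self] at this
    exact not_isUnit_zero this
  have hvmul : ∀ f g, v (f * g) = ev f * v g + ev g * v f := by
    intro f g
    have h := hv2 _ (by rw [pow_two]; exact Ideal.mul_mem_mul (hmem f) (hmem g))
    rw [show (f - algebraMap k R (ev f)) * (g - algebraMap k R (ev g)) =
      f * g - ev f • g - ev g • f + (ev f * ev g) • (1 : R) by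
        simp [Algebra.smul_def]; ring] at h
    simp only [map_add, map_sub, map_smul, hv1, smul_eq_mul] at h
    linear_combination h
  obtain ⟨ψ, hstr, hfst, hψ⟩ := H (tangentHom ev v hv1 hvmul)
    (fun c => by
      show TrivSqZeroExt.inl (ev (algebraMap k R c)) + TrivSqZeroExt.inr (v (algebraMap k R c)) =
        TrivSqZeroExt.inl c
      rw [ev.commutes, Algebra.algebraMap_eq_smul_one c (A := R), map_smul, hv1]
      simp)
    (fun f => by simp [tangentHom])
  refine ⟨Derivation.mk' { toFun := fun f => TrivSqZeroExt.snd (ψ f)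
                           map_add' := fun f g => by simp
                           map_smul' := fun c f => ?_ } fun f g => ?_, fun f => ?_⟩
  · simp [Algebra.smul_def, hstr, hfst]
  · simp [hfst, mul_comm]
  · exact (hψ f).trans (by simp [tangentHom])

end DualRing

variable {K : Type u} [Field K] {G : Over (Spec (CommRingCat.of K))} [GrpObj G]

variable (G) in
/-- The unit point. -/
abbrev ptE : G.left := η[G].left (closedPoint K)

variable (G) in
/-- The local ring at the unit point. -/
abbrev Rloc : CommRingCat := G.left.presheaf.stalk (ptE G)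

variable (G) in
/-- Its structure map. -/
def str : CommRingCat.of K ⟶ Rloc G := Spec.preimage (G.left.fromSpecStalk (ptE G) ≫ G.hom)

lemma map_str : Spec.map (str G) = G.left.fromSpecStalk (ptE G) ≫ G.hom := Spec.map_preimage _

variable (G) in
/-- Evaluation at the unit. -/
def evE : Rloc G ⟶ CommRingCat.of K := Scheme.stalkClosedPointTo η[G].left

lemma map_evE : Spec.map (evE G) ≫ G.left.fromSpecStalk (ptE G) = η[G].left :=
  Scheme.Spec_stalkClosedPointTo_fromSpecStalk _

lemma str_evE : str G ≫ evE G = 𝟙 _ := by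
  apply Spec.map_injective
  rw [Spec.map_comp, map_str, ← Category.assoc, map_evE, Spec.map_id]
  exact Over.w η[G]

/-- `Spec` of a `K`-algebra over `K`. -/
abbrev overSpec {A : CommRingCat} (a : CommRingCat.of K ⟶ A) : Over (Spec (CommRingCat.of K)) :=
  Over.mk (Spec.map a)

/-- A point given on the local ring at the unit. -/
def ptHom {A : CommRingCat} (a : CommRingCat.of K ⟶ A) (φ : Rloc G ⟶ A) (h : str G ≫ φ = a) :
    overSpec a ⟶ G :=
  Over.homMk (Spec.map φ ≫ G.left.fromSpecStalk (ptE G)) (by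
    show (Spec.map φ ≫ G.left.fromSpecStalk (ptE G)) ≫ G.hom = Spec.map a
    rw [Category.assoc, ← map_str, ← Spec.map_comp, h])

/-- Maps of test objects. -/
def testMap {A B : CommRingCat} {a : CommRingCat.of K ⟶ A} {b : CommRingCat.of K ⟶ B} (g : A ⟶ B)
    (h : a ≫ g = b) : overSpec b ⟶ overSpec a :=
  Over.homMk (Spec.map g) (by
    show Spec.map g ≫ Spec.map a = Spec.map b
    rw [← Spec.map_comp, h])

lemma testMap_ptHom {A B : CommRingCat} {a : CommRingCat.of K ⟶ A} {b : CommRingCat.of K ⟶ B} (g : A ⟶ B)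
    (h : a ≫ g = b) (φ : Rloc G ⟶ A) (hφ : str G ≫ φ = a) :
    testMap g h ≫ ptHom a φ hφ = ptHom b (φ ≫ g) (by rw [← Category.assoc, hφ, h]) := by
  ext1
  simp [testMap, ptHom]

lemma ptHom_congr {A : CommRingCat} {a : CommRingCat.of K ⟶ A} {φ φ' : Rloc G ⟶ A} (e : φ = φ')
    (hφ : str G ≫ φ = a) : ptHom a φ hφ = ptHom a φ' (e ▸ hφ) := by
  subst e; rfl

lemma ptHom_unit {A : CommRingCat} (a : CommRingCat.of K ⟶ A) :
    ptHom a (evE G ≫ a) (by rw [← Category.assoc, str_evE, Category.id_comp]) =
      (1 : overSpec a ⟶ G) := by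
  rw [Hom.one_def]
  ext1
  simp [ptHom, map_evE, Over.comp_left]

lemma ptHom_injective {A : CommRingCat} {a : CommRingCat.of K ⟶ A} {φ φ' : Rloc G ⟶ A}
    (hφ : str G ≫ φ = a) (hφ' : str G ≫ φ' = a) (h : ptHom a φ hφ = ptHom a φ' hφ') : φ = φ' := by
  have := congrArg CommaMorphism.left h
  simp only [ptHom, Over.homMk_left] at this
  exact Spec.map_injective ((cancel_mono _).1 this)

lemma exists_eq_ptHom {A : CommRingCat} [IsLocalRing A] (a : CommRingCat.of K ⟶ A) (c : overSpec a ⟶ G)
    (hc : c.left (closedPoint A) = ptE G) : ∃ φ hφ, ptHom a φ hφ = c := by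
  have key : ∀ (x : G.left) (f : Spec A ⟶ G.left), f (closedPoint A) = x →
      ∃ φ : G.left.presheaf.stalk x ⟶ A, Spec.map φ ≫ G.left.fromSpecStalk x = f := by
    rintro x f rfl
    exact ⟨_, Scheme.Spec_stalkClosedPointTo_fromSpecStalk f⟩
  obtain ⟨φ, hφ⟩ := key _ c.left hc
  refine ⟨φ, ?_, ?_⟩
  · apply Spec.map_injective
    rw [Spec.map_comp, map_str, ← Category.assoc, hφ]
    exact Over.w c
  · ext1
    simpa [ptHom] using hφ

/-- A tangent vector at the unit propagates to the local ring. -/
lemma exists_hom_dual (φv : Rloc G ⟶ dn (CommRingCat.of K))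
    (hφv : str G ≫ φv = dnInl _) (hev : φv ≫ dnFst _ = evE G) :
    ∃ ψ : Rloc G ⟶ dn (Rloc G), str G ≫ ψ = str G ≫ dnInl _ ∧ ψ ≫ dnFst _ = 𝟙 _ ∧
      ψ ≫ dnMapC (evE G) = φv := by
  let a : CommRingCat.of K ⟶ dn (Rloc G) := str G ≫ dnInl _
  let bK : CommRingCat.of K ⟶ dn (CommRingCat.of K) := dnInl _
  have hjA : bK ≫ dnMapC (str G) = a := dnInl_map _
  let pA : overSpec a ⟶ G := ptHom a (dnInl _) rfl
  let pB : overSpec a ⟶ G := testMap (dnMapC (str G)) hjA ≫ ptHom bK φv hφv
  let c : overSpec a ⟶ G := pA * pB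
  have hg1 : a ≫ dnFst _ = str G := by rw [Category.assoc, dnInl_fst, Category.comp_id]
  have h1 : testMap (dnFst (Rloc G)) hg1 ≫ c = ptHom (str G) (𝟙 _) (Category.comp_id _) := by
    have e2 : testMap (dnFst (Rloc G)) hg1 ≫ pB = 1 := by
      simp only [pB, testMap_ptHom, ← ptHom_unit]
      refine ptHom_congr ?_ _
      rw [Category.assoc, dnMap_fst, ← Category.assoc, hev]
    rw [MonObj.comp_mul, e2, _root_.mul_one, testMap_ptHom]
    exact ptHom_congr (dnInl_fst _) _
  have hg2 : a ≫ dnMapC (evE G) = bK := by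
    rw [Category.assoc, dnInl_map, ← Category.assoc, str_evE, Category.id_comp]
  have h2 : testMap (dnMapC (evE G)) hg2 ≫ c = ptHom bK φv hφv := by
    have e1 : testMap (dnMapC (evE G)) hg2 ≫ pA = 1 := by
      simp only [pA, testMap_ptHom, ← ptHom_unit]
      exact ptHom_congr (dnInl_map _) _
    rw [MonObj.comp_mul, e1, _root_.one_mul]
    simp only [pB, testMap_ptHom]
    refine ptHom_congr ?_ _
    rw [Category.assoc, dnMap_id_of _ _ str_evE, Category.comp_id]
  have hpt : c.left (closedPoint (dn (Rloc G))) = ptE G := by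
    have hloc : IsLocalHom (dnFst (Rloc G)).hom := ⟨fun z hz => TrivSqZeroExt.isUnit_iff_isUnit_fst.2 hz⟩
    have e : Spec.map (dnFst (Rloc G)) ≫ c.left = G.left.fromSpecStalk (ptE G) := by
      have := congrArg CommaMorphism.left h1
      simpa [testMap, ptHom] using this
    rw [← Spec_closedPoint (f := dnFst (Rloc G))]
    exact (congr($e (closedPoint (Rloc G)))).trans Scheme.fromSpecStalk_closedPoint
  obtain ⟨ψ, hψ, hψc⟩ := exists_eq_ptHom a c hpt
  rw [← hψc, testMap_ptHom] at h1 h2
  exact ⟨ψ, hψ, ptHom_injective _ _ h1, ptHom_injective _ _ h2⟩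

/-- The local ring at the unit of a group scheme over a field of characteristic zero is reduced. -/
theorem isReduced_stalk_unit [CharZero K] [IsLocallyNoetherian G.left] : _root_.IsReduced (Rloc G) := by
  let : Algebra K (Rloc G) := (str G).hom.toAlgebra
  let ev : Rloc G →ₐ[K] K :=
    { (evE G).hom with
      commutes' := fun c => congr($(str_evE (G := G)) c) }
  refine isReduced_of_dual_lifts ev fun φ hφ hev => ?_
  obtain ⟨ψ, hψ, hψ1, hψ2⟩ := exists_hom_dual (G := G) (CommRingCat.ofHom φ)
    (CommRingCat.hom_ext (RingHom.ext hφ)) (CommRingCat.hom_ext (RingHom.ext hev))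
  refine ⟨ψ.hom, fun c => congr($hψ c), fun f => congr($hψ1 f), fun f => ?_⟩
  have h := congrArg TrivSqZeroExt.snd (show dnMapC (evE G) (ψ f) = φ f from congr($hψ2 f))
  rw [snd_eq] at h
  exact h

variable (G) in
lemma exists_translation [IsAlgClosed K] [LocallyOfFiniteType G.hom] (x : G.left) (hx : IsClosed ({x} : Set G.left)) :
    ∃ α : G ≅ G, α.hom.left x = ptE G := by
  let x' : 𝟙_ (Over (Spec (CommRingCat.of K))) ⟶ G :=
    Over.homMk (pointOfClosedPoint G.hom x hx) (pointOfClosedPoint_comp _ _ _)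
  refine ⟨(GrpObj.mulRight x').symm ≪≫ GrpObj.mulRight η[G], ?_⟩
  have hα : x' ≫ ((GrpObj.mulRight x').symm ≪≫ GrpObj.mulRight η[G]).hom = η[G] := by
    dsimp only [Iso.trans_hom, Iso.symm_hom]
    rw [← Category.assoc, ← Iso.eq_comp_inv]
    simp [comp_lift_assoc]
  simpa [x', Function.comp_def] using congr(($hα).left (closedPoint K))

variable (G) in
theorem isReduced_of_stalk_unit [IsAlgClosed K] [LocallyOfFiniteType G.hom]
    (h1 : _root_.IsReduced (Rloc G)) : IsReduced G.left := by
  have := LocallyOfFiniteType.jacobsonSpace G.hom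
  have : IsLocallyNoetherian G.left := LocallyOfFiniteType.isLocallyNoetherian G.hom
  have key : ∀ x : G.left, IsClosed ({x} : Set G.left) → _root_.IsReduced (G.left.presheaf.stalk x) := by
    intro x hx
    obtain ⟨α, hα⟩ := exists_translation G x hx
    have : IsIso α.hom.left := (Over.forget _).map_isIso α.hom
    rw [Rloc, ← hα] at h1
    exact isReduced_of_injective (inv (α.hom.left.stalkMap x)).hom
      (ConcreteCategory.bijective_of_isIso (inv (α.hom.left.stalkMap x))).1
  refine @isReduced_of_isReduced_stalk _ fun z => ?_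
  obtain ⟨x, hzx, hx⟩ := nonempty_inter_closedPoints (X := G.left)
    (Set.singleton_nonempty z |>.closure) isClosed_closure.isLocallyClosed
  obtain ⟨_, ⟨U, hU, rfl⟩, hxU, -⟩ := G.left.isBasis_affineOpens.exists_subset_of_mem_open
    (Set.mem_univ x) isOpen_univ
  replace hU : IsAffineOpen U := hU
  have hspec : z ⤳ x := specializes_iff_mem_closure.2 hzx
  have hzU : z ∈ U := hspec.mem_open U.2 hxU
  have := key x hx
  have hz := hU.isLocalization_stalk ⟨z, hzU⟩
  have hx' := hU.isLocalization_stalk ⟨x, hxU⟩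
  algebraize [(G.left.presheaf.stalkSpecializes hspec).hom]
  have hle : (hU.primeIdealOf ⟨x, hxU⟩).asIdeal.primeCompl ≤ (hU.primeIdealOf ⟨z, hzU⟩).asIdeal.primeCompl := by
    have hle' : hU.primeIdealOf ⟨z, hzU⟩ ⤳ hU.primeIdealOf ⟨x, hxU⟩ := by
      refine hU.fromSpec.isOpenEmbedding.isInducing.specializes_iff.1 ?_
      simpa only [IsAffineOpen.fromSpec_primeIdealOf] using hspec
    intro r hr hz'
    exact hr ((PrimeSpectrum.le_iff_specializes _ _).2 hle' hz')
  let := TopCat.Presheaf.algebra_section_stalk G.left.presheaf ⟨z, hzU⟩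
  let := TopCat.Presheaf.algebra_section_stalk G.left.presheaf ⟨x, hxU⟩
  have : IsScalarTower Γ(G.left, U) (G.left.presheaf.stalk x) (G.left.presheaf.stalk z) :=
    IsScalarTower.of_algebraMap_eq' (by
      exact congrArg CommRingCat.Hom.hom (TopCat.Presheaf.germ_stalkSpecializes G.left.presheaf hxU hspec).symm)
  have := IsLocalization.isLocalization_of_submonoid_le (G.left.presheaf.stalk x) (G.left.presheaf.stalk z) _ _ hle
  exact isReduced_localizationPreserves ((hU.primeIdealOf ⟨z, hzU⟩).asIdeal.primeCompl.map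
    (algebraMap Γ(G.left, U) (G.left.presheaf.stalk x))) (G.left.presheaf.stalk z) ‹_›

variable (G) in
theorem isReduced_of_isAlgClosed [CharZero K] [IsAlgClosed K] [LocallyOfFiniteType G.hom] :
    IsReduced G.left := by
  have : IsLocallyNoetherian G.left := LocallyOfFiniteType.isLocallyNoetherian G.hom
  exact isReduced_of_stalk_unit G (isReduced_stalk_unit (G := G))

variable (G) in
theorem smooth_of_isAlgClosed_of_smoothLocus [IsAlgClosed K] [LocallyOfFiniteType G.hom]
    (hne : (G.hom.smoothLocus : Set G.left).Nonempty) : Smooth G.hom := by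
  have := LocallyOfFiniteType.jacobsonSpace G.hom
  rw [← Scheme.Hom.smoothLocus_eq_top_iff, ← TopologicalSpace.Opens.coe_eq_univ,
    ← not_ne_iff, ← Set.nonempty_compl]
  intro H
  obtain ⟨x, hx, hxc⟩ :=
    nonempty_inter_closedPoints H G.hom.smoothLocus.2.isClosed_compl.isLocallyClosed
  obtain ⟨y, hy : y ∈ G.hom.smoothLocus, hyc⟩ := nonempty_inter_closedPoints
    hne G.hom.smoothLocus.2.isLocallyClosed
  obtain ⟨α, hα⟩ := exists_translation G x hxc
  obtain ⟨β, hβ⟩ := exists_translation G y hyc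
  have hαβ : (α ≪≫ β.symm).hom.left x = y := by
    have : β.inv.left (β.hom.left y) = y := by
      rw [← Scheme.Hom.comp_apply, ← Over.comp_left, β.hom_inv_id]
      rfl
    simp [hα, ← hβ, this]
  have : IsIso (α ≪≫ β.symm).hom.left := (Over.forget _).map_isIso (α ≪≫ β.symm).hom
  rw! [← hαβ, ← (α ≪≫ β.symm).hom.left.mem_preimage, Scheme.Hom.preimage_smoothLocus_eq,
    show (α ≪≫ β.symm).hom.left ≫ G.hom = G.hom from (α ≪≫ β.symm).hom.w] at hy
  exact hx hy

variable (G) in
theorem smooth_of_isAlgClosed_of_isReduced [IsAlgClosed K] [LocallyOfFiniteType G.hom] [IsReduced G.left] :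
    Smooth G.hom := by
  have : Nonempty G.left := ⟨ptE G⟩
  exact smooth_of_isAlgClosed_of_smoothLocus G G.hom.dense_smoothLocus_of_perfectField.nonempty

variable (G) in
/-- A group scheme over a field which is smooth somewhere is smooth. -/
theorem smooth_of_smoothLocus_nonempty [LocallyOfFiniteType G.hom]
    (hne : (G.hom.smoothLocus : Set G.left).Nonempty) : Smooth G.hom := by
  let Ω : Type u := AlgebraicClosure K
  let g : Spec (CommRingCat.of Ω) ⟶ Spec (CommRingCat.of K) := Spec.map (CommRingCat.ofHom <| algebraMap K Ω)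
  have : GrpObj (Over.mk G.hom) := ‹GrpObj G›
  apply MorphismProperty.of_pullback_snd_of_descendsAlong
    (Q := @Surjective ⊓ @Flat ⊓ @QuasiCompact) (g := g)
  · exact ⟨⟨inferInstance, inferInstance⟩, inferInstance⟩
  · let : GrpObj (Over.mk (Limits.pullback.snd G.hom g)) := Over.grpObjMkPullbackSnd
    have : LocallyOfFiniteType (Over.mk (Limits.pullback.snd G.hom g)).hom :=
      inferInstanceAs (LocallyOfFiniteType (Limits.pullback.snd G.hom g))
    refine smooth_of_isAlgClosed_of_smoothLocus (Over.mk (Limits.pullback.snd G.hom g)) ?_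
    obtain ⟨x, hx⟩ := hne
    obtain ⟨z, hz⟩ := (Limits.pullback.fst G.hom g).surjective x
    let U := G.hom.smoothLocus
    let V := (Limits.pullback.fst G.hom g) ⁻¹ᵁ U
    have hU : Smooth (U.ι ≫ G.hom) := by
      rw [← Scheme.Hom.smoothLocus_eq_top_iff, ← Scheme.Hom.preimage_smoothLocus_eq]
      exact U.ι_preimage_self
    have hV : Smooth (V.ι ≫ Limits.pullback.snd G.hom g) :=
      MorphismProperty.of_isPullback
        ((isPullback_morphismRestrict (Limits.pullback.fst G.hom g) U).flip.paste_horiz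
          (IsPullback.of_hasPullback G.hom g).flip).flip hU
    have hzV : z ∈ V := show Limits.pullback.fst G.hom g z ∈ U by rw [hz]; exact hx
    refine ⟨z, ?_⟩
    have h2 := (Scheme.Hom.preimage_smoothLocus_eq V.ι (Limits.pullback.snd G.hom g)).trans
      (Scheme.Hom.smoothLocus_eq_top_iff.2 hV)
    exact h2.ge (show (⟨z, hzV⟩ : V.toScheme) ∈ (⊤ : V.toScheme.Opens) from trivial)

variable (G) in
/-- **Cartier's theorem.** -/
theorem smooth_of_charZero [CharZero K] [LocallyOfFiniteType G.hom] : Smooth G.hom := by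
  let Ω : Type u := AlgebraicClosure K
  let g : Spec (CommRingCat.of Ω) ⟶ Spec (CommRingCat.of K) := Spec.map (CommRingCat.ofHom <| algebraMap K Ω)
  have : GrpObj (Over.mk G.hom) := ‹GrpObj G›
  apply MorphismProperty.of_pullback_snd_of_descendsAlong
    (Q := @Surjective ⊓ @Flat ⊓ @QuasiCompact) (g := g)
  · exact ⟨⟨inferInstance, inferInstance⟩, inferInstance⟩
  · let : GrpObj (Over.mk (Limits.pullback.snd G.hom g)) := Over.grpObjMkPullbackSnd
    have : CharZero Ω := charZero_of_injective_algebraMap (FaithfulSMul.algebraMap_injective K Ω)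
    have : LocallyOfFiniteType (Over.mk (Limits.pullback.snd G.hom g)).hom :=
      inferInstanceAs (LocallyOfFiniteType (Limits.pullback.snd G.hom g))
    have : IsReduced (Over.mk (Limits.pullback.snd G.hom g)).left :=
      isReduced_of_isAlgClosed (Over.mk (Limits.pullback.snd G.hom g))
    exact smooth_of_isAlgClosed_of_isReduced (Over.mk (Limits.pullback.snd G.hom g))

end Groth.Agent.GrpSchLib
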