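import Mathlib

/-! Cartier's theorem, algebraic part: a Noetherian local algebra with residue field `k` of
characteristic zero having enough derivations is reduced. -/

noncomputable section

universe u v

namespace Groth.Agent.GrpSchLib

variable {k : Type u} {R : Type v} [Field k] [CommRing R] [Algebra k R]

lemma isNilpotent_derivation [CharZero k] (D : Derivation k R R) {f : R} (hf : IsNilpotent f) :
    IsNilpotent (D f) := by
  obtain ⟨n, hn⟩ := hf
  have key : ∀ j : ℕ, j ≤ n → ∃ e : ℕ, f ^ (n - j) * (D f) ^ e = 0 := by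
    intro j
    induction j with
    | zero => exact fun _ => ⟨0, by simp [hn]⟩
    | succ j ih =>
      intro hj
      obtain ⟨e, he⟩ := ih (by omega)
      obtain ⟨i, hi⟩ : ∃ i, n - j = i + 1 := ⟨n - (j + 1), by omega⟩
      refine ⟨e + e + 1, ?_⟩
      rw [show n - (j + 1) = i by omega]
      rw [hi] at he
      have h1 := congrArg D he
      rw [D.leibniz, D.leibniz_pow f (i + 1), map_zero] at h1
      simp only [smul_eq_mul, nsmul_eq_mul, Nat.add_sub_cancel] at h1
      have h2 : ((i + 1 : ℕ) : R) * (f ^ i * D f ^ (e + e + 1)) = 0 := by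
        linear_combination (D f ^ e) * h1 - (D (D f ^ e)) * he
      have hu : IsUnit ((i + 1 : ℕ) : R) := by
        have : IsUnit ((i + 1 : ℕ) : k) := (Nat.cast_ne_zero.2 i.succ_ne_zero).isUnit
        simpa only [map_natCast] using this.map (algebraMap k R)
      exact hu.mul_right_eq_zero.1 h2
  obtain ⟨e, he⟩ := key n le_rfl
  exact ⟨e, by simpa using he⟩

open IsLocalRing

theorem isReduced_of_derivations [CharZero k] [IsLocalRing R] [IsNoetherianRing R] (ev : R →ₐ[k] k)
    (H : ∀ v : R →ₗ[k] k, v 1 = 0 → (∀ f ∈ maximalIdeal R ^ 2, v f = 0) →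
      ∃ D : Derivation k R R, ∀ f, ev (D f) = v f) :
    IsReduced R := by
  classical
  have hker : ∀ f, f ∈ maximalIdeal R ↔ ev f = 0 := by
    have hs : Function.Surjective ev := fun c => ⟨algebraMap k R c, ev.commutes c⟩
    have hk : RingHom.ker ev.toRingHom = maximalIdeal R :=
      IsLocalRing.eq_maximalIdeal (RingHom.ker_isMaximal_of_surjective _ hs)
    intro f
    rw [← hk]
    rfl
  have hsub : ∀ f, f - algebraMap k R (ev f) ∈ maximalIdeal R := fun f => by simp [hker]
  let P : Submodule k R := (maximalIdeal R ^ 2).restrictScalars k ⊔ Submodule.span k {1}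
  have : Module.Finite k (R ⧸ P) := by
    obtain ⟨T, hT⟩ := (IsNoetherian.noetherian (maximalIdeal R) : (maximalIdeal R).FG)
    refine Module.finite_def.2 ⟨T.image P.mkQ, ?_⟩
    rw [eq_top_iff]
    rintro y -
    obtain ⟨f, rfl⟩ := Submodule.mkQ_surjective P y
    have hf : P.mkQ f = P.mkQ (f - algebraMap k R (ev f)) := by
      rw [map_sub, eq_comm, sub_eq_self, Submodule.mkQ_apply, Submodule.Quotient.mk_eq_zero]
      rw [Algebra.algebraMap_eq_smul_one]
      exact Submodule.smul_mem _ _ (Submodule.mem_sup_right (Submodule.mem_span_singleton_self 1))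
    rw [hf]
    have hm := hsub f
    rw [← hT] at hm
    generalize f - algebraMap k R (ev f) = g at hm ⊢
    change g ∈ Submodule.span R (T : Set R) at hm
    induction hm using Submodule.span_induction with
    | mem x hx => exact Submodule.subset_span (Finset.mem_coe.2 (Finset.mem_image_of_mem _ hx))
    | zero => rw [map_zero]; exact zero_mem _
    | add a c _ _ ha hc => rw [map_add]; exact add_mem ha hc
    | smul r x hx hxmem =>
      have hxm : x ∈ maximalIdeal R := hT ▸ hx
      have hrx : P.mkQ (r • x) = ev r • P.mkQ x := by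
        rw [← map_smul, ← sub_eq_zero, ← map_sub, Submodule.mkQ_apply, Submodule.Quotient.mk_eq_zero]
        refine Submodule.mem_sup_left ?_
        rw [Submodule.restrictScalars_mem, smul_eq_mul, Algebra.smul_def, ← sub_mul, pow_two]
        exact Ideal.mul_mem_mul (hsub r) hxm
      rw [hrx]
      exact Submodule.smul_mem _ _ hxmem
  let b := Module.finBasis k (R ⧸ P)
  choose y hy using fun i => Submodule.mkQ_surjective P (b i)
  let x : Fin (Module.finrank k (R ⧸ P)) → R := fun i => y i - algebraMap k R (ev (y i))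
  have h1P : (1 : R) ∈ P := Submodule.mem_sup_right (Submodule.mem_span_singleton_self 1)
  have hx : ∀ i, P.mkQ (x i) = b i := fun i => by
    rw [map_sub, hy, sub_eq_self, Submodule.mkQ_apply, Submodule.Quotient.mk_eq_zero,
      Algebra.algebraMap_eq_smul_one]
    exact Submodule.smul_mem _ _ h1P
  have hexD : ∀ i, ∃ D : Derivation k R R, ∀ f, ev (D f) = b.coord i (P.mkQ f) := fun i =>
    H ((b.coord i).comp P.mkQ) (by simp [(Submodule.Quotient.mk_eq_zero P).2 h1P])
      fun f hf => by simp [(Submodule.Quotient.mk_eq_zero P).2 (Submodule.mem_sup_left hf)]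
  choose D hD using hexD
  let E : R → R := fun f => ∑ i, x i * D i f
  have hEadd : ∀ f g, E (f + g) = E f + E g := fun f g => by simp [E, mul_add, Finset.sum_add_distrib]
  have hEmul : ∀ f g, E (f * g) = f * E g + g * E f := fun f g => by
    simp [E, Finset.mul_sum, ← Finset.sum_add_distrib]
    exact Finset.sum_congr rfl fun i _ => by ring
  have hxm : ∀ i, x i ∈ maximalIdeal R := fun i => hsub (y i)
  have hEm : ∀ f, E f ∈ maximalIdeal R := fun f =>
    Ideal.sum_mem _ fun i _ => Ideal.mul_mem_right _ _ (hxm i)
  have hE1 : ∀ f ∈ maximalIdeal R, E f - f ∈ maximalIdeal R ^ 2 := by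
    intro f hf
    have h1 : E f - ∑ i, b.coord i (P.mkQ f) • x i ∈ maximalIdeal R ^ 2 := by
      rw [← Finset.sum_sub_distrib]
      refine Ideal.sum_mem _ fun i _ => ?_
      rw [Algebra.smul_def, ← hD i f, mul_comm _ (x i), ← mul_sub, pow_two]
      exact Ideal.mul_mem_mul (hxm i) (hsub _)
    have h2 : (∑ i, b.coord i (P.mkQ f) • x i) - f ∈ maximalIdeal R ^ 2 := by
      have hP : (∑ i, b.coord i (P.mkQ f) • x i) - f ∈ P := by
        rw [← Submodule.Quotient.mk_eq_zero, ← Submodule.mkQ_apply, map_sub, map_sum, sub_eq_zero]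
        simp_rw [map_smul, hx]
        exact b.sum_repr (P.mkQ f)
      obtain ⟨g, hg, c, hc, hgc⟩ := Submodule.mem_sup.1 hP
      obtain ⟨r, rfl⟩ := Submodule.mem_span_singleton.1 hc
      have hm : (∑ i, b.coord i (P.mkQ f) • x i) - f ∈ maximalIdeal R :=
        sub_mem (Ideal.sum_mem _ fun i _ => Submodule.smul_of_tower_mem _ _ (hxm i)) hf
      have hg' : g ∈ maximalIdeal R := Ideal.pow_le_self two_ne_zero hg
      have hr : r = 0 := by
        have := sub_mem hm hg'
        rw [← hgc, add_sub_cancel_left, hker] at this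
        simpa using this
      rw [← hgc, hr, zero_smul, add_zero]
      exact hg
    simpa using add_mem h1 h2
  have hEd : ∀ (d : ℕ) f, f ∈ maximalIdeal R ^ d → E f - (d : R) * f ∈ maximalIdeal R ^ (d + 1) := by
    intro d
    induction d with
    | zero => intro f _; simpa using hEm f
    | succ d ih =>
      intro f hf
      rw [pow_succ] at hf
      induction hf using Submodule.mul_induction_on' with
      | mem_mul_mem a ha c hc =>
        have key : E (a * c) - ((d + 1 : ℕ) : R) * (a * c) =
            a * (E c - c) + c * (E a - (d : R) * a) := by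
          rw [hEmul]; push_cast; ring
        rw [key]
        refine add_mem ?_ ?_
        · rw [show d + 1 + 1 = d + 2 by omega, pow_add]
          exact Ideal.mul_mem_mul ha (hE1 c hc)
        · rw [pow_succ _ (d + 1), mul_comm c]
          exact Ideal.mul_mem_mul (ih a ha) hc
      | add a _ c _ ha hc =>
        rw [hEadd, mul_add, show E a + E c - (_ + _) = (E a - ((d + 1 : ℕ) : R) * a) +
          (E c - ((d + 1 : ℕ) : R) * c) by ring]
        exact add_mem ha hc
  refine ⟨fun f hf => ?_⟩
  have key : ∀ (d : ℕ) (g : R), IsNilpotent g → g ∈ maximalIdeal R ^ (d + 1) := by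
    intro d
    induction d with
    | zero => intro g hg; simpa [hker] using (hg.map ev).eq_zero
    | succ d ih =>
      intro g hg
      have h1 : E g ∈ maximalIdeal R ^ (d + 1 + 1) := by
        refine Ideal.sum_mem _ fun i _ => ?_
        rw [pow_succ' _ (d + 1)]
        exact Ideal.mul_mem_mul (hxm i) (ih _ (isNilpotent_derivation (D i) hg))
      have h2 := hEd (d + 1) g (ih g hg)
      have hu : IsUnit ((d + 1 : ℕ) : R) := by
        have : IsUnit ((d + 1 : ℕ) : k) := (Nat.cast_ne_zero.2 d.succ_ne_zero).isUnit
        simpa only [map_natCast] using this.map (algebraMap k R)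
      refine (Ideal.unit_mul_mem_iff_mem _ hu).1 ?_
      have h3 := sub_mem h1 h2
      rwa [sub_sub_cancel] at h3
  have hinf : f ∈ ⨅ d : ℕ, maximalIdeal R ^ d := by
    refine Submodule.mem_iInf _ |>.2 fun d => ?_
    cases d with
    | zero => simp
    | succ d => exact key d f hf
  rwa [Ideal.iInf_pow_eq_bot_of_isLocalRing _ (IsLocalRing.maximalIdeal.isMaximal R).ne_top,
    Ideal.mem_bot] at hinf

end Groth.Agent.GrpSchLib
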