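import Groth.Agent.GrpSchLib.HopfReduced

/-! The graded ring at the origin of a Hopf algebra is polynomial below the characteristic. -/

noncomputable section

universe u v

open MvPolynomial WithConv

namespace Groth.Agent.GrpSchLib.HopfRed

variable {k : Type u} [Field k] {B : Type v} [CommRing B] [HopfAlgebra k B]

omit [HopfAlgebra k B] in
lemma chain_rule [Algebra k B] {σ : Type*} [Fintype σ] (D : Derivation k B B) (x : σ → B)
    (P : MvPolynomial σ k) : D (aeval x P) = ∑ j, aeval x (pderiv j P) * D (x j) := by
  classical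
  induction P using MvPolynomial.induction_on with
  | C a => simp [Derivation.map_algebraMap]
  | add p q hp hq => simp [hp, hq, add_mul, Finset.sum_add_distrib]
  | mul_X p i hp =>
    simp only [map_mul, aeval_X, D.leibniz, smul_eq_mul, hp, pderiv_mul, map_add, pderiv_X, add_mul,
      Finset.sum_add_distrib, Finset.mul_sum]
    rw [add_comm]
    congr 1
    · exact Finset.sum_congr rfl fun j _ => by ring
    · rw [Finset.sum_eq_single i]
      · simp
      · intro j _ hj
        simp [Pi.single_apply, Ne.symm hj]
      · simp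

omit [HopfAlgebra k B] in
lemma derivation_pow_succ_le [Algebra k B] (D : Derivation k B B) (I : Ideal B) (n : ℕ) :
    ∀ a ∈ I ^ (n + 1), D a ∈ I ^ n := by
  induction n with
  | zero => intro a _; simp
  | succ n ih =>
    intro a ha
    rw [pow_succ] at ha
    refine Submodule.mul_induction_on ha (fun x hx y hy => ?_) fun x y hx hy => ?_
    · rw [D.leibniz, smul_eq_mul, smul_eq_mul]
      refine add_mem (Ideal.mul_mem_right _ _ hx) ?_
      rw [pow_succ']
      exact Ideal.mul_mem_mul hy (ih x hx)
    · rw [map_add]; exact add_mem hx hy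

omit [HopfAlgebra k B] in
lemma aeval_mem_pow [Algebra k B] {σ : Type*} (x : σ → B) (I : Ideal B) (hx : ∀ i, x i ∈ I) {n : ℕ}
    {P : MvPolynomial σ k} (hP : P.IsHomogeneous n) : aeval x P ∈ I ^ n := by
  classical
  rw [P.as_sum, map_sum]
  refine Ideal.sum_mem _ fun d hd => ?_
  rw [aeval_monomial]
  refine Ideal.mul_mem_left _ _ ?_
  have hdn : d.degree = n := by
    have := hP (MvPolynomial.mem_support_iff.1 hd)
    rwa [show (1 : σ → ℕ) = fun _ => 1 from rfl, ← Finsupp.degree_eq_weight_one] at this
  rw [← hdn, Finsupp.degree_apply, ← Finset.prod_pow_eq_pow_sum]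
  exact Ideal.prod_mem_prod fun i _ => Ideal.pow_mem_pow (hx i) _

variable (k B) in
/-- The augmentation ideal. -/
abbrev augI : Ideal B := RingHom.ker (cou (k := k) (B := B))

lemma sub_mem_augI (a : B) : a - algebraMap k B (cou (k := k) a) ∈ augI k B := by
  simp [RingHom.mem_ker]

variable (k B) in
/-- The projection to the cotangent space. -/
def cotProj : B →ₗ[k] (augI k B).Cotangent where
  toFun a := (augI k B).toCotangent ⟨a - algebraMap k B (cou (k := k) a), sub_mem_augI a⟩
  map_add' a b := by
    rw [← map_add]
    exact congrArg _ (Subtype.ext (by simp; ring))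
  map_smul' c a := by
    rw [RingHom.id_apply, ← LinearMap.map_smul_of_tower (augI k B).toCotangent]
    exact congrArg _ (Subtype.ext (by simp [Algebra.smul_def, mul_sub]))

lemma cotProj_of_mem {a : B} (ha : a ∈ augI k B) : cotProj k B a = (augI k B).toCotangent ⟨a, ha⟩ := by
  refine congrArg _ (Subtype.ext ?_)
  show a - algebraMap k B (cou (k := k) a) = a
  rw [(RingHom.mem_ker).1 ha, map_zero, sub_zero]

lemma cotProj_mul (a b : B) : cotProj k B (a * b) =
    cou (k := k) a • cotProj k B b + cou (k := k) b • cotProj k B a := by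
  show (augI k B).toCotangent _ = _ • (augI k B).toCotangent _ + _ • (augI k B).toCotangent _
  rw [← LinearMap.map_smul_of_tower (augI k B).toCotangent, ← LinearMap.map_smul_of_tower (augI k B).toCotangent,
    ← map_add, Ideal.toCotangent_eq]
  show a * b - algebraMap k B (cou (k := k) (a * b)) -
    (cou (k := k) a • (b - algebraMap k B (cou (k := k) b)) +
      cou (k := k) b • (a - algebraMap k B (cou (k := k) a))) ∈ augI k B ^ 2
  rw [show a * b - algebraMap k B (cou (k := k) (a * b)) -
    (cou (k := k) a • (b - algebraMap k B (cou (k := k) b)) +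
      cou (k := k) b • (a - algebraMap k B (cou (k := k) a))) =
    (a - algebraMap k B (cou (k := k) a)) * (b - algebraMap k B (cou (k := k) b)) by
      simp only [map_mul, Algebra.smul_def]; ring, pow_two]
  exact Ideal.mul_mem_mul (sub_mem_augI a) (sub_mem_augI b)

/-- A linear form on the cotangent space extends to an invariant derivation. -/
lemma exists_derivation_of_dual (v : (augI k B).Cotangent →ₗ[k] k) :
    ∃ D : Derivation k B B, ∀ a, cou (k := k) (D a) = v (cotProj k B a) := by
  let φ : B →ₐ[k] DualNumber k :=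
    { toFun := fun a => TrivSqZeroExt.inl (cou (k := k) a) + TrivSqZeroExt.inr (v (cotProj k B a))
      map_one' := by
        have h1 : cotProj k B 1 = 0 := by
          rw [show cotProj k B 1 = (augI k B).toCotangent ⟨_, sub_mem_augI 1⟩ from rfl,
            Ideal.toCotangent_eq_zero]
          simp
        ext <;> simp [h1]
      map_zero' := by ext <;> simp
      map_add' := fun a b => by ext <;> simp
      map_mul' := fun a b => by
        ext <;> simp [cotProj_mul, mul_comm]
      commutes' := fun c => by
        have h1 : cotProj k B (algebraMap k B c) = 0 := by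
          rw [show cotProj k B (algebraMap k B c) = (augI k B).toCotangent ⟨_, sub_mem_augI _⟩ from rfl,
            Ideal.toCotangent_eq_zero]
          simp
        ext <;> simp [TrivSqZeroExt.algebraMap_eq_inl', h1] }
  obtain ⟨ψ, h1, h2⟩ := exists_dual_hom φ fun a => by simp [φ]
  obtain ⟨D, hD⟩ := exists_derivation ψ h1
  exact ⟨D, fun a => by rw [hD, h2]; simp [φ]⟩

variable {r : ℕ} (b : Module.Basis (Fin r) k (augI k B).Cotangent) (x : Fin r → B)
  (hx : ∀ i, x i ∈ augI k B) (hxb : ∀ i, cotProj k B (x i) = b i)

include hx hxb in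
/-- Forms of degree `n` have independent values modulo `I^(n+1)`. -/
theorem eq_zero_of_aeval_mem : ∀ (n : ℕ), ((n.factorial : k) ≠ 0) → ∀ P : MvPolynomial (Fin r) k,
    P.IsHomogeneous n → aeval x P ∈ augI k B ^ (n + 1) → P = 0 := by
  intro n
  induction n with
  | zero =>
    intro _ P hP hmem
    obtain ⟨c, rfl⟩ : ∃ c, P = MvPolynomial.C c :=
      ⟨_, totalDegree_eq_zero_iff_eq_C.1 ((totalDegree_zero_iff_isHomogeneous _).2 hP)⟩
    rw [zero_add, pow_one, RingHom.mem_ker, aeval_C, AlgHom.commutes, Algebra.algebraMap_self,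
      RingHom.id_apply] at hmem
    rw [hmem, map_zero]
  | succ n ih =>
    intro hn P hP hmem
    rw [Nat.factorial_succ, Nat.cast_mul, mul_ne_zero_iff] at hn
    have hd : ∀ i, pderiv i P = 0 := by
      intro i
      obtain ⟨D, hD⟩ := exists_derivation_of_dual (b.coord i)
      have hdelta : ∀ j, D (x j) - (if i = j then 1 else 0) ∈ augI k B := by
        intro j
        rw [RingHom.mem_ker, map_sub, hD, hxb]
        split_ifs with h
        · subst h; simp
        · simp [Finsupp.single_apply, Ne.symm h]
      refine ih hn.2 _ (by simpa using hP.pderiv) ?_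
      have h1 := derivation_pow_succ_le D (augI k B) (n + 1) _ hmem
      rw [chain_rule] at h1
      have h2 : ∑ j, aeval x (pderiv j P) * (D (x j) - if i = j then 1 else 0) ∈ augI k B ^ (n + 1) := by
        refine Ideal.sum_mem _ fun j _ => ?_
        rw [pow_succ]
        exact Ideal.mul_mem_mul (aeval_mem_pow x _ hx (by simpa using hP.pderiv)) (hdelta j)
      have h3 := sub_mem h1 h2
      rw [← Finset.sum_sub_distrib, Finset.sum_eq_single i] at h3
      · simpa [mul_sub] using h3
      · intro j _ hj
        simp [Ne.symm hj]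
      · simp
    have h := hP.sum_X_mul_pderiv
    simp only [hd, mul_zero, Finset.sum_const_zero] at h
    rw [← Nat.cast_smul_eq_nsmul k, eq_comm] at h
    exact (smul_eq_zero.1 h).resolve_left hn.1

include hx hxb in
/-- Forms of degree `n` span `I^n` modulo `I^(n+1)`. -/
theorem exists_aeval_sub_mem : ∀ (n : ℕ), ∀ a ∈ augI k B ^ n, ∃ P : MvPolynomial (Fin r) k,
    P.IsHomogeneous n ∧ a - aeval x P ∈ augI k B ^ (n + 1) := by
  intro n
  induction n with
  | zero =>
    intro a _
    exact ⟨MvPolynomial.C (cou (k := k) a), isHomogeneous_C _ _, by simpa using sub_mem_augI (k := k) a⟩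
  | succ n ih =>
    intro a ha
    rw [pow_succ] at ha
    refine Submodule.mul_induction_on ha (fun y hy z hz => ?_) ?_
    · obtain ⟨P, hP, hPy⟩ := ih y hy
      let c : Fin r → k := fun i => b.coord i (cotProj k B z)
      let L : MvPolynomial (Fin r) k := ∑ i, MvPolynomial.C (c i) * MvPolynomial.X i
      have hLh : L.IsHomogeneous 1 := IsHomogeneous.sum _ _ _ fun i _ => by
        simpa using (isHomogeneous_C (Fin r) (c i)).mul (isHomogeneous_X k i)
      have hL : z - aeval x L ∈ augI k B ^ 2 := by
        have hLx : aeval x L = ∑ i, c i • x i := by simp [L, Algebra.smul_def]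
        have hLm : aeval x L ∈ augI k B := by simpa using aeval_mem_pow x _ hx hLh
        rw [← Ideal.toCotangent_eq_zero (augI k B) ⟨_, sub_mem hz hLm⟩, ← cotProj_of_mem, map_sub,
          hLx, map_sum, sub_eq_zero]
        simp only [map_smul, hxb]
        exact (b.sum_repr _).symm
      refine ⟨P * L, hP.mul hLh, ?_⟩
      rw [map_mul, show y * z - aeval x P * aeval x L =
        (y - aeval x P) * z + aeval x P * (z - aeval x L) by ring]
      refine add_mem ?_ ?_
      · rw [pow_succ _ (n + 1)]
        exact Ideal.mul_mem_mul hPy hz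
      · rw [show n + 1 + 1 = n + 2 by omega, pow_add]
        exact Ideal.mul_mem_mul (aeval_mem_pow x _ hx hP) hL
    · rintro y z ⟨P, hP, hPy⟩ ⟨Q, hQ, hQz⟩
      refine ⟨P + Q, hP.add hQ, ?_⟩
      rw [map_add, show y + z - (aeval x P + aeval x Q) = (y - aeval x P) + (z - aeval x Q) by ring]
      exact add_mem hPy hQz

/-- The values of forms of degree `n` modulo `I^(n+1)`. -/
def formMap (n : ℕ) : homogeneousSubmodule (Fin r) k n →ₗ[k] B ⧸ augI k B ^ (n + 1) :=
  (Ideal.Quotient.mkₐ k _).toLinearMap.comp ((aeval x).toLinearMap.comp (Submodule.subtype _))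

variable (k B) in
/-- The reduction. -/
def reduceMap (n : ℕ) : (B ⧸ augI k B ^ (n + 1)) →ₗ[k] B ⧸ augI k B ^ n :=
  (Ideal.Quotient.factorₐ k (Ideal.pow_le_pow_right n.le_succ)).toLinearMap

lemma reduceMap_surjective (n : ℕ) : Function.Surjective (reduceMap k B n) :=
  Ideal.Quotient.factor_surjective (Ideal.pow_le_pow_right n.le_succ)

include hx hxb in
lemma range_formMap (n : ℕ) : LinearMap.range (formMap x n) = LinearMap.ker (reduceMap k B n) := by
  ext y
  obtain ⟨a, rfl⟩ := Ideal.Quotient.mk_surjective y
  have hker : Ideal.Quotient.mk _ a ∈ LinearMap.ker (reduceMap k B n) ↔ a ∈ augI k B ^ n := by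
    simp [reduceMap, LinearMap.mem_ker, Ideal.Quotient.eq_zero_iff_mem]
  rw [hker, LinearMap.mem_range]
  constructor
  · rintro ⟨P, hP⟩
    have h : aeval x (P : MvPolynomial (Fin r) k) - a ∈ augI k B ^ (n + 1) := Ideal.Quotient.eq.1 hP
    have := sub_mem (aeval_mem_pow x _ hx P.2) (Ideal.pow_le_pow_right n.le_succ h)
    simpa using this
  · intro ha
    obtain ⟨P, hP, hPa⟩ := exists_aeval_sub_mem b x hx hxb n a ha
    exact ⟨⟨P, hP⟩, (Ideal.Quotient.eq.2 hPa).symm⟩

include hx hxb in
lemma finite_quotient : ∀ n : ℕ, Module.Finite k (B ⧸ augI k B ^ n) := by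
  intro n
  induction n with
  | zero =>
    have : Subsingleton (B ⧸ augI k B ^ 0) :=
      Ideal.Quotient.subsingleton_iff.2 (by rw [pow_zero, Ideal.one_eq_top])
    infer_instance
  | succ n ih =>
    have : Module.Finite k (homogeneousSubmodule (Fin r) k n) :=
      Module.Finite.iff_fg.2 (homogeneousSubmodule_fg (Fin r) k n)
    refine Module.finite_def.2 ?_
    refine Submodule.fg_of_fg_map_of_fg_inf_ker (reduceMap k B n) ?_ ?_
    · rw [Submodule.map_top]
      exact IsNoetherian.noetherian _
    · rw [top_inf_eq, ← range_formMap b x hx hxb, LinearMap.range_eq_map]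
      exact Module.Finite.fg_top.map _

theorem finrank_homogeneous (n : ℕ) :
    Module.finrank k (homogeneousSubmodule (Fin r) k n) = (r + n - 1).choose n := by
  classical
  have e : homogeneousSubmodule (Fin r) k n = restrictSupport k {d : Fin r →₀ ℕ | d.degree = n} :=
    homogeneousSubmodule_eq_finsupp_supported (Fin r) k n
  rw [e, Module.finrank_eq_nat_card_basis (basisRestrictSupport k _)]
  have hs : {d : Fin r →₀ ℕ | d.degree = n} = ↑((Finset.univ : Finset (Fin r)).finsuppAntidiag n) := by
    ext d
    simp [Finsupp.degree_eq_sum]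
  rw [hs, Nat.card_coe_set_eq, Set.ncard_coe_finset, Finset.card_finsuppAntidiag_nat_eq_choose]
  simp

include hx hxb in
theorem finrank_quotient_pow_succ (n : ℕ) (hn : (n.factorial : k) ≠ 0) :
    Module.finrank k (B ⧸ augI k B ^ (n + 1)) =
      Module.finrank k (B ⧸ augI k B ^ n) + (r + n - 1).choose n := by
  have := finite_quotient b x hx hxb (n + 1)
  rw [← LinearMap.finrank_range_add_finrank_ker (reduceMap k B n),
    LinearMap.range_eq_top.2 (reduceMap_surjective n), finrank_top, ← range_formMap b x hx hxb,
    LinearMap.finrank_range_of_inj, finrank_homogeneous]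
  rw [injective_iff_map_eq_zero]
  rintro ⟨P, hP⟩ h
  refine Subtype.ext (eq_zero_of_aeval_mem b x hx hxb n hn P hP ?_)
  exact Ideal.Quotient.eq_zero_iff_mem.1 h

theorem finrank_quotient_augI_pow_succ [IsNoetherianRing B] (n : ℕ) (hn : (n.factorial : k) ≠ 0) :
    Module.finrank k (B ⧸ augI k B ^ (n + 1)) = Module.finrank k (B ⧸ augI k B ^ n) +
      (Module.finrank k (augI k B).Cotangent + n - 1).choose n := by
  have : Module.Finite k (augI k B).Cotangent := by
    obtain ⟨T, hT⟩ := (Module.Finite.of_surjective (augI k B).toCotangent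
      (augI k B).toCotangent_surjective).fg_top
    refine ⟨⟨T, eq_top_iff.2 fun z _ => ?_⟩⟩
    have hz : z ∈ Submodule.span B (T : Set (augI k B).Cotangent) := hT ▸ trivial
    induction hz using Submodule.span_induction with
    | mem y hy => exact Submodule.subset_span hy
    | zero => exact zero_mem _
    | add y z _ _ hy hz => exact add_mem (hy trivial) (hz trivial)
    | smul c y _ hy =>
      obtain ⟨y', rfl⟩ := (augI k B).toCotangent_surjective y
      have : c • (augI k B).toCotangent y' = cou (k := k) c • (augI k B).toCotangent y' := by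
        rw [← map_smul, ← LinearMap.map_smul_of_tower (augI k B).toCotangent, Ideal.toCotangent_eq]
        simp only [SetLike.val_smul, smul_eq_mul, SetLike.val_smul_of_tower, Algebra.smul_def]
        rw [← sub_mul, pow_two]
        exact Ideal.mul_mem_mul (sub_mem_augI c) y'.2
      rw [this]
      exact Submodule.smul_mem _ _ (hy trivial)
  let b := Module.finBasis k (augI k B).Cotangent
  choose y hy using fun i => (augI k B).toCotangent_surjective (b i)
  exact finrank_quotient_pow_succ b (fun i => (y i : B)) (fun i => (y i).2)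
    (fun i => (cotProj_of_mem (y i).2).trans (hy i)) n hn

end Groth.Agent.GrpSchLib.HopfRed
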