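import Mathlib

/-! The module of differentials of a commutative Hopf algebra over a field is free. -/

noncomputable section

universe u v

open TensorProduct WithConv TrivSqZeroExt

namespace Groth.Agent.GrpSchLib.HopfOmega

variable (K : Type u) [Field K] (B : Type v) [CommRing B] [HopfAlgebra K B]

/-- The augmentation ideal. -/
abbrev aug : Ideal B := RingHom.ker (Bialgebra.counitAlgHom K B)

/-- Subtracting the value at the origin. -/
def toAug : B →ₗ[K] aug K B where
  toFun b := ⟨b - algebraMap K B (Bialgebra.counitAlgHom K B b), by simp⟩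
  map_add' a b := Subtype.ext (by simp; ring)
  map_smul' c b := Subtype.ext (by simp [Algebra.smul_def, mul_sub])

/-- The cotangent projection. -/
def prj : B →ₗ[K] (aug K B).Cotangent :=
  ((aug K B).toCotangent.restrictScalars K).comp (toAug K B)

lemma prj_apply (b : B) : prj K B b = (aug K B).toCotangent (toAug K B b) := rfl

lemma prj_one : prj K B 1 = 0 := by
  rw [prj_apply, Ideal.toCotangent_eq_zero]
  simp [toAug]

lemma prj_mul (a b : B) : prj K B (a * b) =
    Bialgebra.counitAlgHom K B a • prj K B b + Bialgebra.counitAlgHom K B b • prj K B a := by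
  simp only [prj_apply]
  rw [← LinearMap.map_smul_of_tower (aug K B).toCotangent, ← LinearMap.map_smul_of_tower (aug K B).toCotangent,
    ← map_add, Ideal.toCotangent_eq]
  have : a * b - algebraMap K B (Bialgebra.counitAlgHom K B (a * b)) -
      (Bialgebra.counitAlgHom K B a • (b - algebraMap K B (Bialgebra.counitAlgHom K B b)) +
        Bialgebra.counitAlgHom K B b • (a - algebraMap K B (Bialgebra.counitAlgHom K B a))) =
      (a - algebraMap K B (Bialgebra.counitAlgHom K B a)) * (b - algebraMap K B (Bialgebra.counitAlgHom K B b)) := by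
    simp only [map_mul, Algebra.smul_def]
    ring
  show a * b - algebraMap K B (Bialgebra.counitAlgHom K B (a * b)) -
      (Bialgebra.counitAlgHom K B a • (b - algebraMap K B (Bialgebra.counitAlgHom K B b)) +
        Bialgebra.counitAlgHom K B b • (a - algebraMap K B (Bialgebra.counitAlgHom K B a))) ∈ aug K B ^ 2
  rw [this, pow_two]
  exact Ideal.mul_mem_mul (toAug K B a).2 (toAug K B b).2

section Generic

variable {K B}
variable {M : Type v} [AddCommGroup M] [Module K M] [Module B M] [IsScalarTower K B M]
  [Module Bᵐᵒᵖ M] [IsCentralScalar B M]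

/-- An algebra map to dual numbers with values in a module. -/
def sqHom (D : B →ₗ[K] M) (f : B →ₐ[K] B) (h1 : D 1 = 0)
    (h : ∀ a b, D (a * b) = f a • D b + f b • D a) : B →ₐ[K] TrivSqZeroExt B M where
  toFun b := inl (f b) + inr (D b)
  map_one' := by ext <;> simp [h1]
  map_zero' := by ext <;> simp
  map_add' a b := by ext <;> simp
  map_mul' a b := by ext <;> simp [h, op_smul_eq_smul]
  commutes' c := by
    ext
    · simp [algebraMap_eq_inl']
    · simp [algebraMap_eq_inl', Algebra.algebraMap_eq_smul_one (A := B), h1]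

/-- The inclusion of the ring. -/
def inlB : B →ₐ[K] TrivSqZeroExt B M := IsScalarTower.toAlgHom K B _

lemma fst_inlB (b : B) : fst (inlB (K := K) (M := M) b) = b := by
  simp [inlB, algebraMap_eq_inl]

lemma comp_inlB {N : Type v} [AddCommGroup N] [Module K N] [Module B N] [IsScalarTower K B N]
    [Module Bᵐᵒᵖ N] [IsCentralScalar B N] (g : M →ₗ[B] N) :
    ((TrivSqZeroExt.map g).restrictScalars K).comp inlB = inlB (K := K) :=
  AlgHom.ext fun b => by
    show TrivSqZeroExt.map g (algebraMap B _ b) = algebraMap B _ b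
    exact AlgHom.commutes _ b

lemma fst_comp_inlB :
    ((TrivSqZeroExt.fstHom B B M).restrictScalars K).comp (inlB (K := K) (M := M)) = AlgHom.id K B :=
  AlgHom.ext fun b => fst_inlB (K := K) (M := M) b

lemma fst_comp_sqHom (D : B →ₗ[K] M) (f : B →ₐ[K] B) (h1 : D 1 = 0)
    (h : ∀ a b, D (a * b) = f a • D b + f b • D a) :
    ((TrivSqZeroExt.fstHom B B M).restrictScalars K).comp (sqHom D f h1 h) = f :=
  AlgHom.ext fun b => by simp [sqHom]

lemma inlB_comp_one :
    toConv ((inlB (K := K) (M := M)).comp (1 : WithConv (B →ₐ[K] B)).ofConv) = 1 := by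
  rw [AlgHom.convOne_def, AlgHom.convOne_def, ofConv_toConv, ← AlgHom.comp_assoc]
  congr 2

lemma inlB_comp_mul_inlB (S : B →ₐ[K] B) (h : toConv S * toConv (AlgHom.id K B) = 1)
    (x : B →ₐ[K] TrivSqZeroExt B M) :
    toConv ((inlB (K := K) (M := M)).comp S) * (toConv (inlB (K := K) (M := M)) * toConv x) = toConv x := by
  have e : toConv ((inlB (K := K) (M := M)).comp S) * toConv (inlB (K := K) (M := M)) = 1 := by
    rw [← inlB_comp_one (K := K) (B := B) (M := M), ← h, AlgHom.comp_convMul_distrib, AlgHom.comp_id]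
  rw [← mul_assoc, e, one_mul]

lemma inlB_mul_inlB_comp (S : B →ₐ[K] B) (h : toConv (AlgHom.id K B) * toConv S = 1)
    (x : B →ₐ[K] TrivSqZeroExt B M) :
    toConv (inlB (K := K) (M := M)) * (toConv ((inlB (K := K) (M := M)).comp S) * toConv x) = toConv x := by
  have e : toConv (inlB (K := K) (M := M)) * toConv ((inlB (K := K) (M := M)).comp S) = 1 := by
    rw [← inlB_comp_one (K := K) (B := B) (M := M), ← h, AlgHom.comp_convMul_distrib, AlgHom.comp_id]
  rw [← mul_assoc, e, one_mul]

end Generic

open KaehlerDifferential in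
theorem free_kaehlerDifferential : Module.Free B (Ω[B⁄K]) := by
  classical
  let : Module Bᵐᵒᵖ (Ω[B⁄K]) := Module.compHom _ ((RingHom.id B).fromOpposite mul_comm)
  have : IsCentralScalar B (Ω[B⁄K]) := ⟨fun _ _ => rfl⟩
  let T := TrivSqZeroExt B (Ω[B⁄K])
  let V := (aug K B).Cotangent
  let W := B ⊗[K] V
  let T' := TrivSqZeroExt B W
  let cou : B →ₐ[K] B := (Algebra.ofId K B).comp (Bialgebra.counitAlgHom K B)
  let S : B →ₐ[K] B := HopfAlgebra.antipodeAlgHom K B
  let δ : B →ₐ[K] T := sqHom (D K B).toLinearMap (AlgHom.id K B) (by simp) (fun a b => (D K B).leibniz a b)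
  let ω : B →ₐ[K] T := (toConv ((inlB (K := K) (M := Ω[B⁄K])).comp S) * toConv δ).ofConv
  let π' : B →ₐ[K] T' := sqHom ((TensorProduct.mk K B V 1).comp (prj K B)) cou
    (by rw [LinearMap.comp_apply, prj_one, map_zero]) (fun a b => by
      simp only [LinearMap.comp_apply]
      rw [prj_mul, map_add, map_smul, map_smul]
      simp [cou, Algebra.ofId_apply, algebraMap_smul])
  let δ' : B →ₐ[K] T' := (toConv (inlB (K := K) (M := W)) * toConv π').ofConv
  have hS : toConv S * toConv (AlgHom.id K B) = (1 : WithConv (B →ₐ[K] B)) := by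
    apply WithConv.ofConv_injective
    apply AlgHom.toLinearMap_injective
    exact congrArg WithConv.ofConv (LinearMap.antipode_mul_id (R := K) (C := B))
  have hS' : toConv (AlgHom.id K B) * toConv S = (1 : WithConv (B →ₐ[K] B)) := by
    apply WithConv.ofConv_injective
    apply AlgHom.toLinearMap_injective
    exact congrArg WithConv.ofConv (LinearMap.id_mul_antipode (R := K) (C := B))
  have hcou : toConv cou = (1 : WithConv (B →ₐ[K] B)) := AlgHom.convOne_def.symm
  have hωfst : ∀ b, fst (ω b) = cou b := by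
    have e : ((TrivSqZeroExt.fstHom B B (Ω[B⁄K])).restrictScalars K).comp ω = cou := by
      rw [AlgHom.comp_convMul_distrib, ← AlgHom.comp_assoc, fst_comp_inlB, AlgHom.id_comp,
        ofConv_toConv]
      have hfδ : ((TrivSqZeroExt.fstHom B B (Ω[B⁄K])).restrictScalars K).comp δ = AlgHom.id K B :=
        AlgHom.ext fun b => by simp [δ, sqHom]
      refine (congrArg (fun z => (toConv S * toConv z).ofConv) hfδ).trans ?_
      rw [hS, ← hcou, ofConv_toConv]
    exact fun b => AlgHom.congr_fun e b
  have hδ'fst : ∀ b, fst (δ' b) = b := by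
    have e : ((TrivSqZeroExt.fstHom B B W).restrictScalars K).comp δ' = AlgHom.id K B := by
      rw [AlgHom.comp_convMul_distrib, fst_comp_inlB, fst_comp_sqHom, hcou, mul_one, ofConv_toConv]
    exact fun b => AlgHom.congr_fun e b
  -- the two linear maps
  let D' : Derivation K B W :=
    Derivation.mk' ((TrivSqZeroExt.sndHom B W).restrictScalars K ∘ₗ δ'.toLinearMap) fun a b => by
      show snd (δ' (a * b)) = a • snd (δ' b) + b • snd (δ' a)
      rw [map_mul, snd_mul, hδ'fst, hδ'fst, op_smul_eq_smul]
  let L : Ω[B⁄K] →ₗ[B] W := D'.liftKaehlerDifferential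
  let w : B →ₗ[K] Ω[B⁄K] := (TrivSqZeroExt.sndHom B (Ω[B⁄K])).restrictScalars K ∘ₗ ω.toLinearMap
  have hwmul : ∀ a b, w (a * b) =
      Bialgebra.counitAlgHom K B a • w b + Bialgebra.counitAlgHom K B b • w a := by
    intro a b
    show snd (ω (a * b)) = _
    rw [map_mul, snd_mul, hωfst, hωfst, op_smul_eq_smul]
    simp [cou, Algebra.ofId_apply, algebraMap_smul, w]
  have hw1 : w 1 = 0 := by
    show snd (ω 1) = 0
    rw [map_one, snd_one]
  have hwker : LinearMap.ker ((aug K B).toCotangent.restrictScalars K) ≤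
      LinearMap.ker (w.comp ((aug K B).subtype.restrictScalars K)) := by
    intro x hx
    have hx' : (x : B) ∈ aug K B ^ 2 := (Ideal.toCotangent_eq_zero _ _).1 hx
    show w (x : B) = 0
    rw [pow_two] at hx'
    refine Submodule.mul_induction_on hx' (fun a ha b hb => ?_) fun a b ha hb => ?_
    · rw [hwmul, (RingHom.mem_ker).1 ha, (RingHom.mem_ker).1 hb, zero_smul, zero_smul, add_zero]
    · rw [map_add, ha, hb, add_zero]
  obtain ⟨wV, hwV⟩ : ∃ wV : V →ₗ[K] Ω[B⁄K], ∀ b, wV (prj K B b) = w b := by
    refine ⟨(Submodule.liftQ _ (w.comp ((aug K B).subtype.restrictScalars K)) hwker).comp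
      ((((aug K B).toCotangent.restrictScalars K).quotKerEquivOfSurjective
        (aug K B).toCotangent_surjective).symm.toLinearMap), fun b => ?_⟩
    have : (((aug K B).toCotangent.restrictScalars K).quotKerEquivOfSurjective
        (aug K B).toCotangent_surjective).symm (prj K B b) = Submodule.Quotient.mk (toAug K B b) := by
      rw [LinearEquiv.symm_apply_eq]
      rfl
    rw [LinearMap.comp_apply, LinearEquiv.coe_toLinearMap, this, Submodule.liftQ_apply]
    show w (b - algebraMap K B (Bialgebra.counitAlgHom K B b)) = w b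
    rw [map_sub, Algebra.algebraMap_eq_smul_one, map_smul, hw1, smul_zero, sub_zero]
  let M : W →ₗ[B] Ω[B⁄K] := LinearMap.liftBaseChange B wV
  have hM : ∀ b, M (1 ⊗ₜ prj K B b) = w b := fun b =>
    ((LinearMap.liftBaseChange_tmul B wV 1 (prj K B b)).trans (one_smul B _)).trans (hwV b)
  have hδ : ((TrivSqZeroExt.map L).restrictScalars K).comp δ = δ' := by
    refine AlgHom.ext fun b => TrivSqZeroExt.ext ?_ ?_
    · simp [δ, sqHom, hδ'fst]
    · simp [δ, sqHom, L, D']
  have hπ : ((TrivSqZeroExt.map M).restrictScalars K).comp π' = ω := by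
    refine AlgHom.ext fun b => TrivSqZeroExt.ext ?_ ?_
    · simp [π', sqHom, hωfst]
    · simp [π', sqHom, hM, w]
  have hLM : L.comp M = LinearMap.id := by
    refine TensorProduct.AlgebraTensorModule.ext fun r v => ?_
    obtain ⟨⟨x, hx⟩, rfl⟩ := (aug K B).toCotangent_surjective v
    have hb : prj K B x = (aug K B).toCotangent ⟨x, hx⟩ := by
      rw [prj_apply]
      congr 1
      exact Subtype.ext (by
        show x - algebraMap K B (Bialgebra.counitAlgHom K B x) = x
        rw [(RingHom.mem_ker).1 hx, map_zero, sub_zero])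
    rw [← hb, ← mul_one r, ← smul_eq_mul, ← smul_tmul', map_smul, map_smul]
    congr 1
    have e : ((TrivSqZeroExt.map L).restrictScalars K).comp ω = π' := by
      rw [AlgHom.comp_convMul_distrib, ← AlgHom.comp_assoc, comp_inlB, hδ]
      exact congrArg WithConv.ofConv (inlB_comp_mul_inlB S hS π')
    have h2 := congrArg snd (AlgHom.congr_fun e x)
    rw [LinearMap.comp_apply, hM]
    simpa [π', sqHom, w] using h2
  have hML : M.comp L = LinearMap.id := by
    refine Derivation.liftKaehlerDifferential_unique _ _ (Derivation.ext fun b => ?_)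
    have e : ((TrivSqZeroExt.map M).restrictScalars K).comp δ' = δ := by
      rw [AlgHom.comp_convMul_distrib, comp_inlB, hπ]
      exact congrArg WithConv.ofConv (inlB_mul_inlB_comp S hS' δ)
    have h2 := congrArg snd (AlgHom.congr_fun e b)
    simp [δ, sqHom] at h2
    simpa [L, D'] using h2
  exact Module.Free.of_equiv (LinearEquiv.ofLinearMap M L hML hLM)

end Groth.Agent.GrpSchLib.HopfOmega
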