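import Groth.Agent.GrpSchLib.Cartier
import Groth.Prelude
import Mathlib.LinearAlgebra.TensorProduct.Basis
import Mathlib.RingTheory.Localization.Away.Basic
import Mathlib.RingTheory.TensorProduct.Free
import Mathlib.FieldTheory.Perfect

/-!
# Reducedness after a field extension spreads from a localization to a neighbourhood
-/

set_option autoImplicit false
set_option linter.style.haveILetI false
set_option backward.isDefEq.respectTransparency false

universe u

open CategoryTheory CategoryTheory.Limits AlgebraicGeometry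
open scoped TensorProduct MonObj

noncomputable section

namespace ReducedNbhd

variable {k : Type u} [Field k] {K : Type u} [Field K] [Algebra k K] {R : Type u} [CommRing R] [Algebra k R]
  {L : Type u} [CommRing L] [Algebra k L] [Algebra R L] [IsScalarTower k R L] (S : Submonoid R) [IsLocalization S L]

local notation "im" => Algebra.TensorProduct.map (AlgHom.id k K) (IsScalarTower.toAlgHom k R L)

include S in
theorem exists_kill (y : K ⊗[k] R) (hy : im y = 0) : ∃ s ∈ S, ((1 : K) ⊗ₜ[k] s) * y = 0 := by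
  classical
  let b := Module.Free.chooseBasis k K
  let e := TensorProduct.equivFinsuppOfBasisLeft (M := K) (N := R) b
  let e' := TensorProduct.equivFinsuppOfBasisLeft (M := K) (N := L) b
  have hnat : ∀ z i, e' (im z) i = algebraMap R L (e z i) := by
    intro z i
    induction z using TensorProduct.induction_on with
    | zero => simp
    | add p q hp hq => simp only [map_add, Finsupp.add_apply, hp, hq]
    | tmul c r =>
      simp [e, e', TensorProduct.equivFinsuppOfBasisLeft_apply_tmul_apply, Algebra.smul_def,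
        ← IsScalarTower.algebraMap_apply k R L]
  have hz : ∀ i, ∃ s : S, (s : R) * e y i = 0 := fun i =>
    (IsLocalization.map_eq_zero_iff S L _).1 (by rw [← hnat, hy]; simp)
  choose s hs using hz
  refine ⟨∏ i ∈ (e y).support, (s i : R), prod_mem fun i _ => (s i).2, ?_⟩
  have hmul : ∀ (t : R) (z : K ⊗[k] R) i, e (((1 : K) ⊗ₜ[k] t) * z) i = t * e z i := by
    intro t z i
    induction z using TensorProduct.induction_on with
    | zero => simp
    | add p q hp hq => simp only [mul_add, map_add, Finsupp.add_apply, hp, hq, mul_add]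
    | tmul c r => simp [e, TensorProduct.equivFinsuppOfBasisLeft_apply_tmul_apply]
  refine e.injective (Finsupp.ext fun i => ?_)
  rw [hmul, map_zero, Finsupp.zero_apply]
  by_cases hi : i ∈ (e y).support
  · obtain ⟨d, hd⟩ := Finset.dvd_prod_of_mem (fun i => (s i : R)) hi
    rw [hd, mul_comm (s i : R) d, mul_assoc, hs, mul_zero]
  · rw [Finsupp.notMem_support_iff.1 hi, mul_zero]

include S in
theorem exists_num (x : K ⊗[k] L) : ∃ (y : K ⊗[k] R) (s : R), s ∈ S ∧ ((1 : K) ⊗ₜ[k] algebraMap R L s) * x = im y := by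
  induction x using TensorProduct.induction_on with
  | zero => exact ⟨0, 1, one_mem _, by simp⟩
  | tmul c l =>
    obtain ⟨⟨r, s⟩, h⟩ := IsLocalization.surj S l
    exact ⟨c ⊗ₜ r, s, s.2, by simp [← h, mul_comm]⟩
  | add p q hp hq =>
    obtain ⟨y, s, hs, h⟩ := hp
    obtain ⟨y', s', hs', h'⟩ := hq
    refine ⟨((1 : K) ⊗ₜ[k] s') * y + ((1 : K) ⊗ₜ[k] s) * y', s * s', mul_mem hs hs', ?_⟩
    simp only [map_add, map_mul, ← h, ← h']
    simp only [Algebra.TensorProduct.map_tmul, AlgHom.id_apply, IsScalarTower.coe_toAlgHom', map_mul]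
    rw [show (1 : K) ⊗ₜ[k] (algebraMap R L s * algebraMap R L s') =
      ((1 : K) ⊗ₜ[k] algebraMap R L s) * ((1 : K) ⊗ₜ[k] algebraMap R L s') by simp]
    ring

include S in
/-- Reducedness spreads to a basic neighbourhood. -/
theorem exists_away [IsNoetherianRing (K ⊗[k] R)] [IsReduced (K ⊗[k] L)] :
    ∃ s ∈ S, ∀ (L' : Type u) [CommRing L'] [Algebra k L'] [Algebra R L'] [IsScalarTower k R L'] [IsLocalization.Away s L'],
      IsReduced (K ⊗[k] L') := by
  classical
  obtain ⟨gens, hgens⟩ := IsNoetherian.noetherian (nilradical (K ⊗[k] R))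
  have hk : ∀ y ∈ gens, ∃ s ∈ S, ((1 : K) ⊗ₜ[k] s) * y = 0 := fun y hy =>
    exists_kill (L := L) S y (((mem_nilradical.1 (hgens ▸ Submodule.subset_span hy)).map im).eq_zero)
  choose f hfS hf using hk
  let s := ∏ y ∈ gens.attach, f y.1 y.2
  have hs : s ∈ S := prod_mem fun y _ => hfS _ _
  have hkill : ∀ y : K ⊗[k] R, IsNilpotent y → ((1 : K) ⊗ₜ[k] s) * y = 0 := by
    intro y hy
    have hmem : y ∈ Submodule.span (K ⊗[k] R) (gens : Set (K ⊗[k] R)) := hgens ▸ mem_nilradical.2 hy
    clear hy
    induction hmem using Submodule.span_induction with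
    | mem x hx =>
      obtain ⟨d, hd⟩ := Finset.dvd_prod_of_mem (fun y : {x // x ∈ gens} => f y.1 y.2) (Finset.mem_attach _ ⟨x, hx⟩)
      rw [show s = d * f x hx by rw [mul_comm]; exact hd, show (1 : K) ⊗ₜ[k] (d * f x hx) = ((1 : K) ⊗ₜ[k] d) * ((1 : K) ⊗ₜ[k] f x hx) by simp,
        mul_assoc, hf, mul_zero]
    | zero => exact mul_zero _
    | add a b _ _ ha hb => rw [mul_add, ha, hb, add_zero]
    | smul a b _ hb => rw [smul_eq_mul, mul_left_comm, hb, mul_zero]
  refine ⟨s, hs, fun L' _ _ _ _ _ => ⟨fun x hx => ?_⟩⟩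
  obtain ⟨y, t, ht, hy⟩ := exists_num (L := L') (Submonoid.powers s) x
  obtain ⟨N, hN⟩ := hx
  have hzero : Algebra.TensorProduct.map (AlgHom.id k K) (IsScalarTower.toAlgHom k R L') (y ^ N) = 0 := by
    rw [map_pow, ← hy, mul_pow, hN, mul_zero]
  obtain ⟨t', ht', hz⟩ := exists_kill (L := L') (Submonoid.powers s) _ hzero
  have hnil : IsNilpotent (((1 : K) ⊗ₜ[k] t') * y) := ⟨N + 1, by
    rw [mul_pow, pow_succ' ((1 : K) ⊗ₜ[k] t'), pow_succ y]
    calc _ = ((1 : K) ⊗ₜ[k] t') ^ N * y * (((1 : K) ⊗ₜ[k] t') * y ^ N) := by ring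
      _ = 0 := by rw [hz, mul_zero]⟩
  have h0 := congrArg (Algebra.TensorProduct.map (AlgHom.id k K) (IsScalarTower.toAlgHom k R L')) (hkill _ hnil)
  rw [map_zero, map_mul, map_mul, ← hy] at h0
  simp only [Algebra.TensorProduct.map_tmul, AlgHom.id_apply, IsScalarTower.coe_toAlgHom'] at h0
  have hu : ∀ r ∈ Submonoid.powers s, IsUnit ((1 : K) ⊗ₜ[k] algebraMap R L' r) := fun r hr =>
    (IsLocalization.map_units L' (⟨r, hr⟩ : Submonoid.powers s)).map
      (Algebra.TensorProduct.includeRight : L' →ₐ[k] K ⊗[k] L')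
  rw [(hu s (Submonoid.mem_powers s)).mul_right_eq_zero, (hu t' ht').mul_right_eq_zero, (hu t ht).mul_right_eq_zero] at h0
  exact h0

end ReducedNbhd
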