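import Groth.Agent.GrpSchLib.Cartier
import Groth.Agent.CohenLib.SmoothPoint

/-! Group schemes with regular local ring at the unit are smooth. -/

noncomputable section

universe u

open CategoryTheory AlgebraicGeometry IsLocalRing

namespace Groth.Agent.GrpSchLib

lemma isGeometricallyReduced_of_surjective {k L : Type u} [Field k] [Field L] [Algebra k L]
    (h : Function.Surjective (algebraMap k L)) : Algebra.IsGeometricallyReduced k L := by
  have : Algebra.IsGeometricallyReduced k k :=
    (Algebra.isGeometricallyReduced_field_iff k k).2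
      (isReduced_of_injective (Algebra.TensorProduct.rid k k (AlgebraicClosure k)).toAlgHom.toRingHom
        (Algebra.TensorProduct.rid k k (AlgebraicClosure k)).injective)
  exact Algebra.IsGeometricallyReduced.of_injective
    (AlgEquiv.ofBijective (Algebra.ofId k L) ⟨(algebraMap k L).injective, h⟩).symm.toAlgHom
    (AlgEquiv.ofBijective (Algebra.ofId k L) ⟨(algebraMap k L).injective, h⟩).symm.injective

/-- The stalk of the spectrum of a field is the field. -/
lemma isIso_toStalk_field (K : Type u) [Field K] (p : Spec (CommRingCat.of K)) :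
    IsIso ((Scheme.ΓSpecIso (CommRingCat.of K)).inv ≫
      (Spec (CommRingCat.of K)).presheaf.germ ⊤ p trivial) := by
  have h : IsIso (StructureSheaf.toStalk (CommRingCat.of K) p) := by
    rw [ConcreteCategory.isIso_iff_bijective]
    let q : PrimeSpectrum K := p
    have hb : Function.Bijective (algebraMap K ((Spec.structureSheaf K).presheaf.stalk q)) :=
      (IsLocalization.atUnits K q.asIdeal.primeCompl
        (S := (Spec.structureSheaf K).presheaf.stalk q) fun x hx =>
          Ne.isUnit fun h0 => hx (by rw [h0]; exact q.asIdeal.zero_mem)).bijective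
    exact hb
  exact h

variable {K : Type u} [Field K] {G : Over (Spec (CommRingCat.of K))} [GrpObj G]

lemma str_eq : str G = ((Scheme.ΓSpecIso (CommRingCat.of K)).inv ≫
    (Spec (CommRingCat.of K)).presheaf.germ ⊤ (G.hom (ptE G)) trivial) ≫ G.hom.stalkMap (ptE G) := by
  apply Spec.map_injective
  rw [map_str, Spec.map_comp, ← Spec.fromSpecStalk_eq]
  exact (Scheme.SpecMap_stalkMap_fromSpecStalk G.hom).symm

variable (G) in
theorem smooth_of_isRegularLocalRing_stalk [LocallyOfFiniteType G.hom]
    (hreg : IsRegularLocalRing (Rloc G)) : Smooth G.hom := by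
  refine smooth_of_smoothLocus_nonempty G ⟨ptE G, ?_⟩
  let τ := ((Scheme.ΓSpecIso (CommRingCat.of K)).inv ≫
    (Spec (CommRingCat.of K)).presheaf.germ ⊤ (G.hom (ptE G)) trivial)
  have hτ : IsIso τ := isIso_toStalk_field K _
  let : Algebra K (Rloc G) := (str G).hom.toAlgebra
  have hbij : Function.Bijective τ.hom := ConcreteCategory.bijective_of_isIso τ
  have hess : Algebra.EssFiniteType K (Rloc G) := by
    rw [← RingHom.essFiniteType_algebraMap]
    show (str G).hom.EssFiniteType
    rw [str_eq]
    exact (RingHom.EssFiniteType.respectsIso.2 _ (asIso τ).commRingCatIsoToRingEquiv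
      (LocallyOfFiniteType.stalkMap G.hom (ptE G)))
  have hsurj : Function.Surjective (algebraMap K (ResidueField (Rloc G))) := by
    intro y
    obtain ⟨f, rfl⟩ := IsLocalRing.residue_surjective y
    refine ⟨evE G f, ?_⟩
    rw [IsScalarTower.algebraMap_apply K (Rloc G) (ResidueField (Rloc G))]
    refine (sub_eq_zero.1 ?_).symm
    rw [show algebraMap (Rloc G) (ResidueField (Rloc G)) = IsLocalRing.residue (Rloc G) from rfl,
      ← map_sub, IsLocalRing.residue_eq_zero_iff, IsLocalRing.mem_maximalIdeal, mem_nonunits_iff]
    intro hu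
    have := hu.map (evE G).hom
    rw [map_sub, show (evE G).hom (algebraMap K (Rloc G) (evE G f)) = evE G f from
      congr($(str_evE (G := G)) (evE G f))] at this
    simp at this
  have := isGeometricallyReduced_of_surjective hsurj
  have hfs : Algebra.FormallySmooth K (Rloc G) := CohenLib.formallySmooth_of_regular
  rw [← RingHom.formallySmooth_algebraMap] at hfs
  show (G.hom.stalkMap (ptE G)).hom.FormallySmooth
  have h2 := RingHom.FormallySmooth.respectsIso.2 (str G).hom (asIso τ).symm.commRingCatIsoToRingEquiv hfs
  convert h2 using 1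
  have e : G.hom.stalkMap (ptE G) = (asIso τ).inv ≫ str G := by
    rw [str_eq]
    exact (Iso.inv_hom_id_assoc (asIso τ) _).symm
  exact congrArg CommRingCat.Hom.hom e

end Groth.Agent.GrpSchLib
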